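import Groth.Agent.H15Site.DescTri.Sect
import Groth.Agent.H15Site.CechRestrict

/-!
# Cohomological descent through double Čech nerves
-/

set_option autoImplicit false
set_option linter.style.haveILetI false
set_option linter.unusedSectionVars false
set_option backward.isDefEq.respectTransparency false
set_option backward.isDefEq.respectTransparency.types false

universe u

open CategoryTheory CategoryTheory.Limits Opposite TopologicalSpace
open Groth.Agent.H15Site.OpensFib Groth.Agent.H15Site.DescSimp
open Groth.Agent.H15Site.DoubleSS (Dbl)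

noncomputable section

namespace Groth.Agent.H15Site.DescTri

attribute [local instance 10000] SiteInst.hasSheafifySite SiteInst.hasWeakSheafifySite
  SiteInst.hasExtSite SiteInst.enoughInjSite

variable {S : TopCat.{u}}

section Bi

variable (A B : K Δ ⥤ Over S)

/-- The fibre product of two diagrams over the base. -/
def zo : K Δ ⥤ K Δ ⥤ Over S where
  obj k :=
    { obj := fun l => Over.mk (pullback.fst (A.obj k).hom (B.obj l).hom ≫ (A.obj k).hom)
      map := fun {l l'} g => Over.homMk
        (pullback.map _ _ _ _ (𝟙 _) (B.map g).left (𝟙 _) (by simp) (by simp))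
        (by simp [pullback.map])
      map_id := fun l => Over.OverMorphism.ext (pullback.hom_ext (by simp) (by simp))
      map_comp := fun f g => Over.OverMorphism.ext (pullback.hom_ext (by simp) (by simp)) }
  map {k k'} f :=
    { app := fun l => Over.homMk
        (pullback.map _ _ _ _ (A.map f).left (𝟙 _) (𝟙 _) (by simp) (by simp))
        (by simp [pullback.map])
      naturality := fun l l' g => Over.OverMorphism.ext (pullback.hom_ext (by simp) (by simp)) }
  map_id k := NatTrans.ext (funext fun l => Over.OverMorphism.ext (pullback.hom_ext (by simp) (by simp)))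
  map_comp f g := NatTrans.ext (funext fun l => Over.OverMorphism.ext (pullback.hom_ext (by simp) (by simp)))

variable {A B}

/-- Recognition of a row. -/
def rowIso {C : K Δ ⥤ Over S} (l : K Δ) (e : C ⟶ A) (f : C ⟶ (Functor.const (K Δ)).obj (B.obj l))
    (h : ∀ k, IsPullback (e.app k).left (f.app k).left (A.obj k).hom (B.obj l).hom) :
    C ≅ (zo A B).flip.obj l :=
  NatIso.ofComponents (fun k => Over.isoMk (h k).isoPullback (by
      show (h k).isoPullback.hom ≫ pullback.fst _ _ ≫ _ = _
      rw [(h k).isoPullback_hom_fst_assoc]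
      exact Over.w (e.app k)))
    (fun {k k'} β => Over.OverMorphism.ext (pullback.hom_ext (by
        simp [zo, pullback.map]
        exact congrArg CommaMorphism.left (e.naturality β)) (by
        simp [zo, pullback.map]
        exact (congrArg CommaMorphism.left (f.naturality β)).trans (Category.comp_id _))))

/-- Recognition of a column. -/
def colIso {C : K Δ ⥤ Over S} (k : K Δ) (e : C ⟶ (Functor.const (K Δ)).obj (A.obj k)) (f : C ⟶ B)
    (h : ∀ l, IsPullback (e.app l).left (f.app l).left (A.obj k).hom (B.obj l).hom) :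
    C ≅ (zo A B).obj k :=
  NatIso.ofComponents (fun l => Over.isoMk (h l).isoPullback (by
      show (h l).isoPullback.hom ≫ pullback.fst _ _ ≫ _ = _
      rw [(h l).isoPullback_hom_fst_assoc]
      exact Over.w (e.app l)))
    (fun {l l'} β => Over.OverMorphism.ext (pullback.hom_ext (by
        simp [zo, pullback.map]
        exact (congrArg CommaMorphism.left (e.naturality β)).trans (Category.comp_id _)) (by
        simp [zo, pullback.map]
        exact congrArg CommaMorphism.left (f.naturality β))))

end Bi

section Cech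

variable {X : TopCat.{u}} (u : X ⟶ S)

/-- The Čech nerve as a diagram over the base. -/
abbrev nerveS : K Δ ⥤ Over S := overY (FibDesc.cechAug u) (𝟙 S)

variable {T : TopCat.{u}} (j : T ⟶ S)

/-- The nerve of a base change. -/
abbrev nerveT : K Δ ⥤ Over S := overY (FibDesc.cechAug (pullback.snd u j)) j

/-- To the nerve. -/
def toNerve : nerveT u j ⟶ nerveS u where
  app k := Over.homMk ((CechRestrict.e u j).app k) (by
    show (CechRestrict.e u j).app k ≫ tB (FibDesc.cechAug u) k ≫ 𝟙 S = tB (FibDesc.cechAug _) k ≫ j
    exact (congrArg (_ ≫ ·) (Category.comp_id _)).trans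
      ((CechRestrict.e u j).naturality ((botTerminal (D := Δ)).from k)).symm)
  naturality k k' β := Over.OverMorphism.ext ((CechRestrict.e u j).naturality β)

/-- To the base. -/
def toBase : nerveT u j ⟶ (Functor.const (K Δ)).obj (Over.mk j) where
  app k := Over.homMk (tB (FibDesc.cechAug (pullback.snd u j)) k) rfl
  naturality k k' β := Over.OverMorphism.ext (by
    refine Eq.trans ?_ (Category.comp_id _).symm
    exact ((FibDesc.cechAug (pullback.snd u j)).map_comp _ _).symm.trans (congrArg _ (bot_ext _ _)))

lemma tB_cech {X T : TopCat.{u}} (f : X ⟶ T) (n : Δ) :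
    tB (FibDesc.cechAug f) (op (WithInitial.of n)) = WidePullback.base (fun _ : Fin (n.len + 1) => f) :=
  (congrArg (FibDesc.cechAug f).map (bot_ext _ (WithInitial.starInitial.to (WithInitial.incl.obj n)).op)).trans
    (CechSplit.map_to f n)

lemma tB_star {X T : TopCat.{u}} (f : X ⟶ T) :
    tB (FibDesc.cechAug f) (op WithInitial.star) = 𝟙 T :=
  (congrArg (FibDesc.cechAug f).map (bot_ext _ (𝟙 _))).trans ((FibDesc.cechAug f).map_id _)

theorem isPullback_nerve (k : K Δ) :
    IsPullback ((toNerve u j).app k).left ((toBase u j).app k).left ((nerveS u).obj k).hom j := by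
  induction k with
  | op k =>
  match k with
  | .star =>
    show IsPullback j (tB (FibDesc.cechAug (pullback.snd u j)) (op WithInitial.star))
      (tB (FibDesc.cechAug u) (op WithInitial.star) ≫ 𝟙 S) j
    rw [tB_star, tB_star]
    haveI : IsIso (𝟙 S ≫ 𝟙 S) := (Category.comp_id (𝟙 S)).symm ▸ IsIso.id S
    haveI : IsIso (𝟙 T) := IsIso.id T
    exact @IsPullback.of_vert_isIso _ _ _ _ _ _ _ _ _ _ (IsIso.id T) (by assumption) ⟨(congrArg (j ≫ ·) (Category.comp_id (𝟙 S))).trans
      ((Category.comp_id j).trans (Category.id_comp j).symm)⟩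
  | .of n =>
    show IsPullback (CechRestrict.cmp u j (n.len + 1)) (tB (FibDesc.cechAug (pullback.snd u j)) (op (WithInitial.of n)))
      (tB (FibDesc.cechAug u) (op (WithInitial.of n)) ≫ 𝟙 S) j
    rw [tB_cech, tB_cech]
    exact (Category.comp_id (WidePullback.base (fun _ : Fin (n.len + 1) => u))).symm ▸
      CechRestrict.cmp_isPullback u j (n.len + 1)

variable {u}

/-- The nerve itself as the row over the base. -/
def nerveIso {X' : TopCat.{u}} (v : X' ⟶ S) :
    nerveS u ≅ (zo (nerveS u) (nerveS v)).flip.obj (FibDesc.bot Δ) :=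
  have hb : ((nerveS v).obj (FibDesc.bot Δ)).hom = 𝟙 S := by
    show tB (FibDesc.cechAug v) (op WithInitial.star) ≫ 𝟙 S = 𝟙 S
    rw [tB_star]
    exact Category.comp_id (𝟙 S)
  rowIso (A := nerveS u) (B := nerveS v) (FibDesc.bot Δ) (𝟙 _)
    { app := fun k => Over.homMk ((nerveS u).obj k).hom (by
        show _ ≫ ((nerveS v).obj (FibDesc.bot Δ)).hom = _
        rw [hb]
        exact Category.comp_id _)
      naturality := fun k k' β => Over.OverMorphism.ext
        ((Over.w ((nerveS u).map β)).trans (Category.comp_id _).symm) }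
    fun k => by
      haveI : IsIso ((nerveS v).obj (FibDesc.bot Δ)).hom := by rw [hb]; exact IsIso.id _
      refine IsPullback.of_horiz_isIso ⟨?_⟩
      show 𝟙 _ ≫ _ = ((nerveS u).obj k).hom ≫ _
      rw [hb]
      exact (Category.id_comp _).trans (Category.comp_id _).symm

end Cech

/-- A bifunctor in opposite indices. -/
def biSect (M : Sys S) (V : Opens S) (C : K Δ ⥤ K Δ ⥤ Over S) :
    WithInitial Δ ⥤ WithInitial Δ ⥤ CochainComplex AddCommGrpCat.{u} ℤ where
  obj k := sectZ M V (C.obj (op k))
  map {k k'} f := Functor.whiskerRight (NatTrans.rightOp (C.map f.op)) (ΓF M V)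
  map_id k := by
    refine NatTrans.ext (funext fun l => ?_)
    show (ΓF M V).map ((C.map (𝟙 (op k))).app (op l)).op = _
    rw [C.map_id]
    exact (ΓF M V).map_id _
  map_comp f g := by
    refine NatTrans.ext (funext fun l => ?_)
    show (ΓF M V).map ((C.map (g.op ≫ f.op)).app (op l)).op = _
    rw [C.map_comp]
    exact (ΓF M V).map_comp _ _

/-- The rows of a bifunctor. -/
def biSectRow (M : Sys S) (V : Opens S) (C : K Δ ⥤ K Δ ⥤ Over S) (l : WithInitial Δ) :
    (biSect M V C).flip.obj l ≅ sectZ M V (C.flip.obj (op l)) :=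
  NatIso.ofComponents (fun k => Iso.refl _) (fun g => (Category.comp_id _).trans (Category.id_comp _).symm)

section Triple

variable (Z : WithInitial Δ ⥤ WithInitial Δ ⥤ CochainComplex AddCommGrpCat.{u} ℤ)

/-- The triple complex. -/
abbrev triCx : CochainComplex Dbl.{u} ℤ := altCx (Z ⋙ altFunctor)

theorem totExact_triple (hcol : ∀ k, TotExact (altCx (Z.obj k)))
    (hrow : ∀ j : ℕ, TotExact (altCx (Z.flip.obj (ix (j + 1))))) :
    TotExact (altCx (Z.flip.obj (ix 0))) := by
  let T := triCx Z
  let E : ∀ n : ℤ, Dbl.{u} ⥤ CochainComplex AddCommGrpCat.{u} ℤ := fun n =>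
    HomologicalComplex.eval (CochainComplex AddCommGrpCat.{u} ℤ) (ComplexShape.up ℤ) n
  have eU : ∀ n : ℤ, Nonempty (U T n ≅ altCx ((Z ⋙ altFunctor) ⋙ E n)) := fun n =>
    ⟨altMapIso (E n) (Z ⋙ altFunctor)⟩
  have hz : ∀ m n q, m < -1 → ∀ x : ((T.X m).X n).X q, x = 0 := fun m n q hm x =>
    (AddCommGrpCat.subsingleton_of_isZero
      ((E n ⋙ HomologicalComplex.eval AddCommGrpCat.{u} (ComplexShape.up ℤ) q).map_isZero
        (isZero_altX (Z ⋙ altFunctor) m hm))).elim _ _
  have hz' : ∀ m n q, n < -1 → ∀ x : ((T.X m).X n).X q, x = 0 := fun m n q hn x => by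
    match m, x with
    | Int.ofNat k, x => exact eq_zero_altCx _ n q hn x
    | Int.negSucc 0, x => exact eq_zero_altCx _ n q hn x
    | Int.negSucc (j + 1), x => exact hz _ n q (by omega) x
  have hT : ∀ m, TotExact (T.X m) := fun m => by
    match m with
    | Int.ofNat k => exact hcol (ix (k + 1))
    | Int.negSucc 0 => exact hcol (ix 0)
    | Int.negSucc (j + 1) => exact totExact_of_subsingleton fun p q x => hz _ p q (by omega) x
  have hU : ∀ n, 0 ≤ n → TotExact (U T n) := fun n hn => by
    obtain ⟨j, rfl⟩ := Int.eq_ofNat_of_zero_le hn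
    obtain ⟨e⟩ := eU (Int.ofNat j)
    exact totExact_of_iso e (hrow j)
  obtain ⟨e⟩ := eU (Int.negSucc 0)
  exact totExact_of_iso e.symm (totExact_U T hz hz' hT hU)

end Triple

/-- The row of a base change. -/
def rowNerveIso {X Y : TopCat.{u}} (u : X ⟶ S) (v : Y ⟶ S) (l : K Δ) :
    nerveT u ((nerveS v).obj l).hom ≅ (zo (nerveS u) (nerveS v)).flip.obj l :=
  rowIso (A := nerveS u) (B := nerveS v) l (toNerve u ((nerveS v).obj l).hom)
    { app := fun k => Over.homMk ((toBase u ((nerveS v).obj l).hom).app k).left
        (Over.w ((toBase u ((nerveS v).obj l).hom).app k))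
      naturality := fun k k' β => Over.OverMorphism.ext
        (congrArg CommaMorphism.left ((toBase u ((nerveS v).obj l).hom).naturality β)) }
    (isPullback_nerve u _)

/-- The column of a base change. -/
def colNerveIso {X Y : TopCat.{u}} (u : X ⟶ S) (v : Y ⟶ S) (k : K Δ) :
    nerveT v ((nerveS u).obj k).hom ≅ (zo (nerveS u) (nerveS v)).obj k :=
  colIso (A := nerveS u) (B := nerveS v) k
    { app := fun l => Over.homMk ((toBase v ((nerveS u).obj k).hom).app l).left
        (Over.w ((toBase v ((nerveS u).obj k).hom).app l))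
      naturality := fun l l' β => Over.OverMorphism.ext
        (congrArg CommaMorphism.left ((toBase v ((nerveS u).obj k).hom).naturality β)) }
    (toNerve v ((nerveS u).obj k).hom) (fun l => (isPullback_nerve v _ l).flip)

/-- Isomorphic diagrams have isomorphic complexes of sections. -/
def sectIso (M : Sys S) (V : Opens S) {C C' : K Δ ⥤ Over S} (e : C ≅ C') :
    altCx (sectZ M V C) ≅ altCx (sectZ M V C') :=
  altFunctor.mapIso (Functor.isoWhiskerRight
    (NatIso.ofComponents (fun k => (e.app (op k)).op.symm)
      (fun g => Quiver.Hom.unop_inj (e.inv.naturality g.op).symm)) (ΓF M V))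

/-- **Descent through base changes along a Čech nerve.** -/
theorem isCohDescentMap_of_baseChange {X Y : TopCat.{u}} (u : X ⟶ S) (v : Y ⟶ S)
    (hv : FibDesc.IsUnivCohDescentMap v)
    (h : ∀ n : ℕ, FibDesc.IsCohDescentMap
      (pullback.snd u (WidePullback.base (fun _ : Fin (n + 1) => v) :
        widePullback S (fun _ : Fin (n + 1) => Y) (fun _ => v) ⟶ S))) :
    FibDesc.IsCohDescentMap u := by
  refine isCohDescentTop_of_totExact (FibDesc.cechAug u) fun F V => ?_
  change TopologicalSpace.Opens S at V
  let M := Sys.ofSheaf (S := S) F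
  let C := zo (nerveS u) (nerveS v)
  let Z := biSect M V C
  have hcol : ∀ k, TotExact (altCx (Z.obj k)) := fun k =>
    totExact_of_iso (sectIso M V (colNerveIso u v (op k)).symm)
      (totExact_sectZ_of_descent V _ _ F (hv _ ((nerveS u).obj (op k)).hom))
  have hrow : ∀ j : ℕ, TotExact (altCx (Z.flip.obj (ix (j + 1)))) := fun j => by
    refine totExact_of_iso (altFunctor.mapIso (biSectRow M V C (ix (j + 1)))) ?_
    refine totExact_of_iso (sectIso M V (rowNerveIso u v (op (ix (j + 1)))).symm) ?_
    refine totExact_sectZ_of_descent V _ _ F ?_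
    have key : ∀ (l : widePullback S (fun _ : Fin (j + 1) => Y) (fun _ => v) ⟶ S),
        l = WidePullback.base (fun _ : Fin (j + 1) => v) → FibDesc.IsCohDescentMap (pullback.snd u l) := by
      rintro l rfl; exact h j
    exact key ((nerveS v).obj (op (ix (j + 1)))).hom ((Category.comp_id _).trans (tB_cech v (SimplexCategory.mk j)))
  exact totExact_of_iso (sectIso M V (nerveIso (u := u) v))
    (totExact_of_iso (altFunctor.mapIso (biSectRow M V C (ix 0))).symm (totExact_triple Z hcol hrow))

end Groth.Agent.H15Site.DescTri
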