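import Groth.Agent.H15Site.DescTri.Bisimp
import Mathlib.CategoryTheory.Limits.Shapes.Pullback.Pasting

/-!
# Permanence of universal cohomological descent
-/

set_option autoImplicit false
set_option linter.style.haveILetI false
set_option linter.unusedSectionVars false
set_option backward.isDefEq.respectTransparency false
set_option backward.isDefEq.respectTransparency.types false

universe u

open CategoryTheory CategoryTheory.Limits Opposite TopologicalSpace
open Groth.Agent.H15Site.OpensFib Groth.Agent.H15Site.DescSimp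

noncomputable section

namespace Groth.Agent.H15Site.DescTri

attribute [local instance 10000] SiteInst.hasSheafifySite SiteInst.hasWeakSheafifySite
  SiteInst.hasExtSite SiteInst.enoughInjSite

variable {X Y S : TopCat.{u}}

/-- Invariance under isomorphisms of the source. -/
theorem isCohDescentMap_of_iso {X' : TopCat.{u}} {f : X ⟶ S} {f' : X' ⟶ S} (e : X ≅ X') (he : e.hom ≫ f' = f)
    (h : FibDesc.IsCohDescentMap f) : FibDesc.IsCohDescentMap f' :=
  let α : Arrow.mk f ≅ Arrow.mk f' := Arrow.isoMk e (Iso.refl S) (he.trans (Category.comp_id f).symm)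
  isCohDescentTop_of_iso
    (AugmentedSimplexCategory.equivAugmentedSimplicialObject.inverse.mapIso
      (SimplicialObject.augmentedCechNerve.mapIso α)) h

theorem isCohDescentMap_of_isPullback {P T : TopCat.{u}} {f : X ⟶ S} {s : T ⟶ S} {a : P ⟶ X} {b : P ⟶ T}
    (h : IsPullback a b f s) (hf : FibDesc.IsUnivCohDescentMap f) : FibDesc.IsCohDescentMap b :=
  isCohDescentMap_of_iso h.isoPullback.symm h.isoPullback_inv_snd (hf T s)

theorem isUnivCohDescentMap_of_isPullback {P T : TopCat.{u}} {f : X ⟶ S} {s : T ⟶ S} {a : P ⟶ X} {b : P ⟶ T}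
    (h : IsPullback a b f s) (hf : FibDesc.IsUnivCohDescentMap f) : FibDesc.IsUnivCohDescentMap b :=
  fun _ t => isCohDescentMap_of_isPullback ((IsPullback.of_hasPullback b t).paste_horiz h) hf

theorem isCohDescentMap_of_univ {f : X ⟶ S} (hf : FibDesc.IsUnivCohDescentMap f) : FibDesc.IsCohDescentMap f :=
  isCohDescentMap_of_isPullback (IsPullback.of_horiz_isIso ⟨(Category.id_comp f).trans (Category.comp_id f).symm⟩ :
    IsPullback (𝟙 X) f f (𝟙 S)) hf

theorem isUnivCohDescentMap_snd {T : TopCat.{u}} {f : X ⟶ S} (hf : FibDesc.IsUnivCohDescentMap f) (s : T ⟶ S) :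
    FibDesc.IsUnivCohDescentMap (pullback.snd f s) :=
  isUnivCohDescentMap_of_isPullback (IsPullback.of_hasPullback f s) hf

/-- A factor of a map of universal descent, weak form. -/
theorem isCohDescentMap_of_factor {g : Y ⟶ S} {h : X ⟶ S} (k : X ⟶ Y) (hk : k ≫ g = h)
    (hh : FibDesc.IsUnivCohDescentMap h) : FibDesc.IsCohDescentMap g := by
  refine isCohDescentMap_of_baseChange g h hh fun n => ?_
  let b : widePullback S (fun _ : Fin (n + 1) => X) (fun _ => h) ⟶ S := WidePullback.base (fun _ : Fin (n + 1) => h)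
  let s : widePullback S (fun _ : Fin (n + 1) => X) (fun _ => h) ⟶ pullback g b :=
    pullback.lift (WidePullback.π (fun _ : Fin (n + 1) => h) 0 ≫ k) (𝟙 _)
      (by rw [Category.assoc, hk, WidePullback.π_arrow, Category.id_comp])
  exact CechSplit.isCohDescentMap_of_section (pullback.snd g b) s (pullback.lift_snd _ _ _)

/-- Cancellation. -/
theorem isUnivCohDescentMap_of_comp {f : X ⟶ Y} {g : Y ⟶ S} (h : FibDesc.IsUnivCohDescentMap (f ≫ g)) :
    FibDesc.IsUnivCohDescentMap g := fun T t =>
  isCohDescentMap_of_factor (pullback.lift (pullback.fst (f ≫ g) t ≫ f) (pullback.snd (f ≫ g) t)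
      (by rw [Category.assoc, pullback.condition]))
    (pullback.lift_snd _ _ _) (isUnivCohDescentMap_snd h t)

/-- Composites, weak form. -/
theorem isCohDescentMap_comp {f : X ⟶ Y} {g : Y ⟶ S} (hf : FibDesc.IsUnivCohDescentMap f)
    (hg : FibDesc.IsUnivCohDescentMap g) : FibDesc.IsCohDescentMap (f ≫ g) := by
  refine isCohDescentMap_of_baseChange (f ≫ g) g hg fun n => ?_
  let b : widePullback S (fun _ : Fin (n + 1) => Y) (fun _ => g) ⟶ S := WidePullback.base (fun _ : Fin (n + 1) => g)
  let φ := WidePullback.π (fun _ : Fin (n + 1) => g) 0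
  let w : pullback f φ ⟶ pullback (f ≫ g) b := pullback.lift (pullback.fst f φ) (pullback.snd f φ)
    (by rw [pullback.condition_assoc, WidePullback.π_arrow])
  exact isCohDescentMap_of_factor w (pullback.lift_snd _ _ _) (isUnivCohDescentMap_snd hf φ)

/-- Composites. -/
theorem isUnivCohDescentMap_comp {f : X ⟶ Y} {g : Y ⟶ S} (hf : FibDesc.IsUnivCohDescentMap f)
    (hg : FibDesc.IsUnivCohDescentMap g) : FibDesc.IsUnivCohDescentMap (f ≫ g) := fun T t =>
  isCohDescentMap_of_isPullback (a := 𝟙 _)
    (IsPullback.of_horiz_isIso ⟨(Category.id_comp _).trans (Category.comp_id _).symm⟩ :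
      IsPullback (𝟙 _) (pullback.snd (f ≫ g) t) (pullback.snd (f ≫ g) t) (𝟙 T))
    (fun T' t' => by
      have hp := (IsPullback.of_hasPullback (pullback.snd (f ≫ g) t) t').paste_horiz (IsPullback.of_hasPullback (f ≫ g) t)
      have hP := (IsPullback.of_hasPullback f (pullback.fst g (t' ≫ t))).paste_vert
        (IsPullback.of_hasPullback g (t' ≫ t))
      exact isCohDescentMap_of_iso (hP.isoIsPullback _ _ hp) (hP.isoIsPullback_hom_snd _ _ hp)
        (isCohDescentMap_comp (isUnivCohDescentMap_snd hf _) (isUnivCohDescentMap_snd hg _)))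

/-- Descent along a map of universal descent. -/
theorem isUnivCohDescentMap_iff_baseChange {T : TopCat.{u}} (f : X ⟶ S) (g : T ⟶ S)
    (hg : FibDesc.IsUnivCohDescentMap g) :
    FibDesc.IsUnivCohDescentMap f ↔ FibDesc.IsUnivCohDescentMap (pullback.snd f g) :=
  ⟨fun hf => isUnivCohDescentMap_snd hf g, fun h => isUnivCohDescentMap_of_comp (f := pullback.fst f g) (g := f)
    (pullback.condition (f := f) (g := g) ▸ isUnivCohDescentMap_comp h hg)⟩

/-- Maps of fibre products. -/
theorem isUnivCohDescentMap_map {X' Y' : TopCat.{u}} (pX : X' ⟶ S) (pY : Y' ⟶ S) (f : X ⟶ X') (g : Y ⟶ Y')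
    (hf : FibDesc.IsUnivCohDescentMap f) (hg : FibDesc.IsUnivCohDescentMap g) :
    FibDesc.IsUnivCohDescentMap
      (pullback.map (f ≫ pX) (g ≫ pY) pX pY f g (𝟙 S) (Category.comp_id _) (Category.comp_id _)) := by
  let mid₁ : pullback (f ≫ pX) (g ≫ pY) ⟶ pullback pX (g ≫ pY) :=
    pullback.map _ _ _ _ f (𝟙 Y) (𝟙 S) (Category.comp_id _) (by simp)
  let mid₂ : pullback pX (g ≫ pY) ⟶ pullback pX pY :=
    pullback.map _ _ _ _ (𝟙 X') g (𝟙 S) (by simp) (Category.comp_id _)
  have h₁ : IsPullback (pullback.fst (f ≫ pX) (g ≫ pY)) mid₁ f (pullback.fst pX (g ≫ pY)) :=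
    IsPullback.of_bot (by simpa [mid₁, pullback.map] using IsPullback.of_hasPullback (f ≫ pX) (g ≫ pY))
      (by simp [mid₁, pullback.map]) (IsPullback.of_hasPullback pX (g ≫ pY))
  have h₂ : IsPullback (pullback.snd pX (g ≫ pY)) mid₂ g (pullback.snd pX pY) :=
    IsPullback.of_bot (by simpa [mid₂, pullback.map] using (IsPullback.of_hasPullback pX (g ≫ pY)).flip)
      (by simp [mid₂, pullback.map]) (IsPullback.of_hasPullback pX pY).flip
  have e : pullback.map (f ≫ pX) (g ≫ pY) pX pY f g (𝟙 S) (Category.comp_id _) (Category.comp_id _) =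
      mid₁ ≫ mid₂ := by
    apply pullback.hom_ext <;> simp [mid₁, mid₂, pullback.map]
  rw [e]
  exact isUnivCohDescentMap_comp (isUnivCohDescentMap_of_isPullback h₁ hf) (isUnivCohDescentMap_of_isPullback h₂ hg)

end Groth.Agent.H15Site.DescTri
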