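import Groth.Agent.H15Site.DescTri.Cone
import Groth.Agent.H15Site.DescSimp.Index
import Mathlib.Algebra.Homology.HomologicalComplexAbelian

/-!
# Augmented alternating coface complexes
-/

set_option autoImplicit false
set_option linter.style.haveILetI false
set_option linter.unusedSectionVars false
set_option backward.isDefEq.respectTransparency false

universe u v w

open CategoryTheory CategoryTheory.Limits
open Groth.Agent.H15Site.DescSimp (Δ ix face)
open Groth.Agent.H15Site.DoubleSS (Dbl)

noncomputable section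

namespace Groth.Agent.H15Site.DescTri

variable {A : Type w} [Category.{v} A] [Preadditive A] [HasZeroObject A]

/-- The objects: `-1` is the augmentation. -/
def altX (Z : WithInitial Δ ⥤ A) : ℤ → A
  | Int.ofNat k => Z.obj (ix (k + 1))
  | Int.negSucc 0 => Z.obj (ix 0)
  | Int.negSucc (_ + 1) => (HasZeroObject.zero (C := A)).choose

lemma isZero_altX (Z : WithInitial Δ ⥤ A) : ∀ p : ℤ, p < -1 → IsZero (altX Z p)
  | Int.ofNat k, h => absurd h (by simp)
  | Int.negSucc 0, h => absurd h (by simp)
  | Int.negSucc (_ + 1), _ => (HasZeroObject.zero (C := A)).choose_spec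

/-- The alternating sum of cofaces. -/
def altDiff (Z : WithInitial Δ ⥤ A) (m : ℕ) : Z.obj (ix m) ⟶ Z.obj (ix (m + 1)) :=
  ∑ i : Fin (m + 1), ((-1 : ℤ) ^ (i : ℕ)) • Z.map (face m i)

/-- The differential. -/
def altd (Z : WithInitial Δ ⥤ A) : ∀ p : ℤ, altX Z p ⟶ altX Z (p + 1)
  | Int.ofNat k => altDiff Z (k + 1)
  | Int.negSucc 0 => altDiff Z 0
  | Int.negSucc (_ + 1) => 0

theorem altDiff_altDiff (Z : WithInitial Δ ⥤ A) (m : ℕ) : altDiff Z m ≫ altDiff Z (m + 1) = 0 := by
  cases m with
  | zero =>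
    have e : ∀ j : Fin 2, Z.map (face 0 0) ≫ Z.map (face 1 j) =
        Z.map (WithInitial.starInitial.to (ix 2)) := fun j => by
      rw [← Z.map_comp]
      exact congrArg Z.map (WithInitial.starInitial.hom_ext _ _)
    show (∑ i : Fin 1, _) ≫ (∑ i : Fin 2, _) = 0
    simp only [Fin.sum_univ_one, Fin.sum_univ_two, Fin.val_zero, pow_zero, one_smul,
      Preadditive.comp_add, Fin.val_one, pow_one, neg_smul, Preadditive.comp_neg]
    rw [e 0, e 1, add_neg_cancel]
  | succ m => exact AlgebraicTopology.AlternatingCofaceMapComplex.d_squared (WithInitial.incl ⋙ Z) m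

theorem altd_altd (Z : WithInitial Δ ⥤ A) : ∀ p : ℤ, altd Z p ≫ altd Z (p + 1) = 0
  | Int.ofNat k => altDiff_altDiff Z (k + 1)
  | Int.negSucc 0 => altDiff_altDiff Z 0
  | Int.negSucc (_ + 1) => zero_comp

/-- The augmented complex of a cosimplicial object. -/
def altCx (Z : WithInitial Δ ⥤ A) : CochainComplex A ℤ :=
  CochainComplex.of (altX Z) (altd Z) (altd_altd Z)

lemma altCx_d (Z : WithInitial Δ ⥤ A) (p : ℤ) : (altCx Z).d p (p + 1) = altd Z p :=
  CochainComplex.of_d (altX Z) (altd Z) p

/-- Components of a map. -/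
def altApp {Z Z' : WithInitial Δ ⥤ A} (α : Z ⟶ Z') : ∀ p : ℤ, altX Z p ⟶ altX Z' p
  | Int.ofNat k => α.app (ix (k + 1))
  | Int.negSucc 0 => α.app (ix 0)
  | Int.negSucc (_ + 1) => 0

lemma altDiff_nat {Z Z' : WithInitial Δ ⥤ A} (α : Z ⟶ Z') (m : ℕ) :
    α.app (ix m) ≫ altDiff Z' m = altDiff Z m ≫ α.app (ix (m + 1)) := by
  rw [altDiff, altDiff, Preadditive.comp_sum, Preadditive.sum_comp]
  refine Finset.sum_congr rfl fun i _ => ?_
  rw [Preadditive.comp_zsmul, Preadditive.zsmul_comp, α.naturality]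

/-- Functoriality. -/
def altMap {Z Z' : WithInitial Δ ⥤ A} (α : Z ⟶ Z') : altCx Z ⟶ altCx Z' where
  f := altApp α
  comm' p p' h := by
    obtain rfl : p + 1 = p' := h
    rw [altCx_d, altCx_d]
    match p with
    | Int.ofNat k => exact altDiff_nat α (k + 1)
    | Int.negSucc 0 => exact altDiff_nat α 0
    | Int.negSucc (j + 1) => exact zero_comp.trans zero_comp.symm

/-- The functor. -/
def altFunctor : (WithInitial Δ ⥤ A) ⥤ CochainComplex A ℤ where
  obj := altCx
  map := altMap
  map_id Z := HomologicalComplex.hom_ext _ _ fun p => by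
    match p with
    | Int.ofNat k => rfl
    | Int.negSucc 0 => rfl
    | Int.negSucc (j + 1) => exact (isZero_altX Z _ (by omega)).eq_of_src _ _
  map_comp α β := HomologicalComplex.hom_ext _ _ fun p => by
    match p with
    | Int.ofNat k => rfl
    | Int.negSucc 0 => rfl
    | Int.negSucc (j + 1) => exact (isZero_altX _ _ (by omega)).eq_of_src _ _

section Ab

variable (Z : WithInitial Δ ⥤ CochainComplex AddCommGrpCat.{u} ℤ)

lemma eq_zero_altCx (p q : ℤ) (hp : p < -1) (x : ((altCx Z).X p).X q) : x = 0 :=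
  (AddCommGrpCat.subsingleton_of_isZero
    ((HomologicalComplex.eval AddCommGrpCat.{u} (ComplexShape.up ℤ) q).map_isZero (isZero_altX Z p hp))).elim _ _

/-- The rows. -/
abbrev rowAt (q : ℤ) : WithInitial Δ ⥤ AddCommGrpCat.{u} :=
  Z ⋙ HomologicalComplex.eval AddCommGrpCat.{u} (ComplexShape.up ℤ) q

lemma altDiff_f (q : ℤ) (m : ℕ) : (altDiff Z m).f q = DescSimp.altD (rowAt Z q) m := by
  show (HomologicalComplex.eval AddCommGrpCat.{u} (ComplexShape.up ℤ) q).map (altDiff Z m) = _
  rw [altDiff, Functor.map_sum]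
  exact Finset.sum_congr rfl fun i _ => Functor.map_zsmul _

/-- Complexes with exact rows have exact totalisation. -/
theorem totExact_of_rows
    (h₀ : ∀ q (x : (Z.obj (ix 0)).X q), (DescSimp.altD (rowAt Z q) 0).hom x = 0 → x = 0)
    (h : ∀ q m (x : (Z.obj (ix (m + 1))).X q), (DescSimp.altD (rowAt Z q) (m + 1)).hom x = 0 →
      ∃ y, (DescSimp.altD (rowAt Z q) m).hom y = x)
    (hq : ∀ m q, q < 0 → ∀ x : (Z.obj m).X q, x = 0) : TotExact (altCx Z) := by
  intro x hx
  let G : ℤ → Type u := fun q => ∀ p, ((altCx Z).X p).X q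
  let δ : ∀ q, G q →+ G q := fun q =>
    { toFun := fun y p => (((altCx Z).d (p - 1) p).f q).hom (y (p - 1))
      map_zero' := funext fun p => map_zero _
      map_add' := fun _ _ => funext fun p => map_add _ _ _ }
  let f : ∀ q q', G q →+ G q' := fun q q' =>
    { toFun := fun y p => DoubleSS.sgn p • (((altCx Z).X p).d q q').hom (y p)
      map_zero' := funext fun p => (congrArg (DoubleSS.sgn p • ·) (map_zero _)).trans (smul_zero _)
      map_add' := fun _ _ => funext fun p => (congrArg (DoubleSS.sgn p • ·) (map_add _ _ _)).trans (smul_add _ _ _) }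
  have hz : ∀ q, q < -1 → ∀ y : G q, y = 0 := fun q hq' y => funext fun p => by
    show y p = 0
    match p, y p with
    | Int.ofNat k, v => exact hq _ q (by omega) v
    | Int.negSucc 0, v => exact hq _ q (by omega) v
    | Int.negSucc (j + 1), v => exact eq_zero_altCx Z _ q (by omega) v
  have hrow : ∀ q p (v : ((altCx Z).X p).X q), (((altCx Z).d p (p + 1)).f q).hom v = 0 →
      ∃ c : ((altCx Z).X (p - 1)).X q, (((altCx Z).d (p - 1) p).f q).hom c = v := by
    intro q p v hv
    rw [altCx_d] at hv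
    match p, v, hv with
    | Int.ofNat 0, v, hv =>
      change ((altDiff Z 1).f q).hom v = 0 at hv
      rw [altDiff_f] at hv
      obtain ⟨c, hc⟩ := h q 0 v hv
      refine ⟨c, ?_⟩
      show ((((altCx Z).d (Int.negSucc 0) (Int.negSucc 0 + 1))).f q).hom c = v
      rw [altCx_d]
      show ((altDiff Z 0).f q).hom c = v
      rw [altDiff_f]
      exact hc
    | Int.ofNat (k + 1), v, hv =>
      change ((altDiff Z (k + 2)).f q).hom v = 0 at hv
      rw [altDiff_f] at hv
      obtain ⟨c, hc⟩ := h q (k + 1) v hv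
      have gen : ∀ (a : ℤ) (_ : a = Int.ofNat k), ∃ c' : ((altCx Z).X a).X q,
          (((altCx Z).d a (Int.ofNat (k + 1))).f q).hom c' = v := by
        rintro a rfl
        refine ⟨c, ?_⟩
        show ((((altCx Z).d (Int.ofNat k) (Int.ofNat k + 1))).f q).hom c = v
        rw [altCx_d]
        show ((altDiff Z (k + 1)).f q).hom c = v
        rw [altDiff_f]
        exact hc
      exact gen _ (by simp)
    | Int.negSucc 0, v, hv =>
      change ((altDiff Z 0).f q).hom v = 0 at hv
      rw [altDiff_f] at hv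
      exact ⟨0, (map_zero _).trans (h₀ q v hv).symm⟩
    | Int.negSucc (j + 1), v, _ =>
      exact ⟨0, (map_zero _).trans (eq_zero_altCx Z _ q (by omega) v).symm⟩
  have hex : ∀ q (y : G q), δ q y = 0 → ∃ w, δ q w = y := by
    intro q y hy
    choose c hc using fun p => hrow q p (y p) (by
      have h1 := congrFun hy (p + 1)
      have gen : ∀ a (_ : a = p), (((altCx Z).d a (p + 1)).f q).hom (y a) = 0 →
          (((altCx Z).d p (p + 1)).f q).hom (y p) = 0 := by
        rintro a rfl hh; exact hh
      exact gen _ (by omega) h1)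
    have key : ∀ i j (h : i + 1 = j), ∃ c' : ((altCx Z).X i).X q, (((altCx Z).d i j).f q).hom c' = y j := by
      rintro i j rfl
      have gen : ∀ a (_ : a = i) (c' : ((altCx Z).X a).X q), (((altCx Z).d a (i + 1)).f q).hom c' = y (i + 1) →
          ∃ c'' : ((altCx Z).X i).X q, (((altCx Z).d i (i + 1)).f q).hom c'' = y (i + 1) := by
        rintro a rfl c' hh; exact ⟨c', hh⟩
      exact gen _ (by omega) _ (hc (i + 1))
    choose A hA using key
    have e : ∀ i j (h : i + 1 = j), (((altCx Z).d i j).f q).hom (A i (i + 1) rfl) = y j := by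
      rintro i j rfl; exact hA i _ rfl
    exact ⟨fun p => A p (p + 1) rfl, funext fun p => e (p - 1) p (by omega)⟩
  obtain ⟨w, hw⟩ := exists_primitive (G := G) δ f (fun q y => funext fun p => by
      show DoubleSS.sgn p • (((altCx Z).X p).d (q - 1) q).hom (DoubleSS.sgn p •
        (((altCx Z).X p).d (q - 1 - 1) (q - 1)).hom (y p)) = 0
      rw [map_zsmul, show (((altCx Z).X p).d (q - 1) q).hom ((((altCx Z).X p).d (q - 1 - 1) (q - 1)).hom (y p)) = 0
        from ConcreteCategory.congr_hom (((altCx Z).X p).d_comp_d _ _ _) _, smul_zero, smul_zero])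
    (fun q y => funext fun p => by
      show DoubleSS.sgn p • (((altCx Z).X p).d (q - 1) q).hom ((((altCx Z).d (p - 1) p).f (q - 1)).hom (y (p - 1))) +
        (((altCx Z).d (p - 1) p).f q).hom (DoubleSS.sgn (p - 1) • (((altCx Z).X (p - 1)).d (q - 1) q).hom (y (p - 1))) = 0
      rw [map_zsmul, DoubleSS.sgn_pred, show (((altCx Z).X p).d (q - 1) q).hom
        ((((altCx Z).d (p - 1) p).f (q - 1)).hom (y (p - 1))) = (((altCx Z).d (p - 1) p).f q).hom
          ((((altCx Z).X (p - 1)).d (q - 1) q).hom (y (p - 1))) from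
        ConcreteCategory.congr_hom (((altCx Z).d (p - 1) p).comm (q - 1) q) _]
      module)
    hz hex (fun q p => x p q) (fun q => funext fun p => by
      have h1 := congrFun (congrFun hx p) q
      change (((altCx Z).d (p - 1) p).f q).hom (x (p - 1) q) +
        (DoubleSS.sgn p * DoubleSS.sgn 0) • (((altCx Z).X p).d (q - 1) q).hom (x p (q - 1)) = 0 at h1
      rw [sgn_zero, mul_one, add_comm] at h1
      exact h1)
  refine ⟨fun p q => w q p, funext fun p => funext fun q => ?_⟩
  have h1 := congrFun (hw q) p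
  change DoubleSS.sgn p • (((altCx Z).X p).d (q - 1) q).hom (w (q - 1) p) +
    (((altCx Z).d (p - 1) p).f q).hom (w q (p - 1)) = x p q at h1
  show (((altCx Z).d (p - 1) p).f q).hom (w q (p - 1)) +
    (DoubleSS.sgn p * DoubleSS.sgn 0) • (((altCx Z).X p).d (q - 1) q).hom (w (q - 1) p) = x p q
  rw [sgn_zero, mul_one, add_comm]
  exact h1

end Ab

end Groth.Agent.H15Site.DescTri
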