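import Groth.Agent.H15Site.DescSimp.Criterion

/-!
# Cohomological descent through the direct image of resolutions
-/

set_option autoImplicit false
set_option linter.style.haveILetI false
set_option linter.unusedSectionVars false
set_option backward.isDefEq.respectTransparency false
set_option backward.isDefEq.respectTransparency.types false

universe u

open CategoryTheory CategoryTheory.Limits Opposite
open TopologicalSpace Groth.Agent.H15Site.OpensFib Groth.Agent.H15Site.DescSimp

noncomputable section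

namespace Groth.Agent.H15Site.DescTri

attribute [local instance 10000] SiteInst.hasSheafifySite SiteInst.hasWeakSheafifySite
  SiteInst.hasExtSite SiteInst.enoughInjSite

attribute [local instance] HasDerivedCategory.standard

theorem kap_gen {A B : Type (u + 1)} [Category.{u} A] [Category.{u} B] [Abelian A] [Abelian B]
    {P : A ⥤ B} {G : B ⥤ A} [P.Additive] [G.Additive] (adj : P ⊣ G) (X : A) {I : CochainComplex A ℤ}
    {J : CochainComplex B ℤ} (φ : (CochainComplex.singleFunctor A 0).obj X ⟶ I)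
    (a : (P.mapHomologicalComplex (ComplexShape.up ℤ)).obj I ⟶ J) :
    (CochainComplex.singleFunctor A 0).map (adj.unit.app X) ≫
      (HomologicalComplex.singleMapHomologicalComplex G (ComplexShape.up ℤ) 0).inv.app (P.obj X) ≫
      (G.mapHomologicalComplex (ComplexShape.up ℤ)).map
        ((HomologicalComplex.singleMapHomologicalComplex P (ComplexShape.up ℤ) 0).inv.app X ≫
          (P.mapHomologicalComplex (ComplexShape.up ℤ)).map φ ≫ a) =
      φ ≫ DerivedFF.adjunct adj a := by
  refine HomologicalComplex.from_single_hom_ext ?_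
  simp [CochainComplex.singleFunctor, CochainComplex.singleFunctors,
    HomologicalComplex.singleMapHomologicalComplex_inv_app_self, HomologicalComplex.single_map_f_self,
    DerivedFF.adjunct_f]

theorem exact_of_quasiIso_single {C : Type (u+1)} [Category.{u} C] [Abelian C] {A : C} (L : CochainComplex C ℤ)
    (φ : (CochainComplex.singleFunctor C 0).obj A ⟶ L) (hz : IsZero (L.X (-1))) [QuasiIso φ] :
    ∃ (w : ((HomologicalComplex.singleObjXSelf (ComplexShape.up ℤ) 0 A).inv ≫ φ.f 0) ≫ L.d 0 1 = 0),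
      (ShortComplex.mk _ _ w).Exact ∧
        Mono ((HomologicalComplex.singleObjXSelf (ComplexShape.up ℤ) 0 A).inv ≫ φ.f 0) := by
  have hq0 : QuasiIsoAt φ 0 := inferInstance
  rw [quasiIsoAt_iff' φ (-1) 0 1 (by simp) (by simp)] at hq0
  have z₀ : IsZero (((CochainComplex.singleFunctor C 0).obj A).X (-1)) :=
    HomologicalComplex.isZero_single_obj_X _ _ _ _ (by simp)
  have z₁ : IsZero (((CochainComplex.singleFunctor C 0).obj A).X 1) :=
    HomologicalComplex.isZero_single_obj_X _ _ _ _ (by simp)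
  obtain ⟨h1, h2⟩ := (ShortComplex.quasiIso_iff_of_zeros
    ((HomologicalComplex.shortComplexFunctor' C (ComplexShape.up ℤ) (-1) 0 1).map φ)
    (z₀.eq_of_src _ _) (z₁.eq_of_tgt _ _) (hz.eq_of_src _ _)).1 hq0
  refine ⟨?_, ?_, ?_⟩
  · rw [Category.assoc, φ.comm 0 1, z₁.eq_of_tgt (((CochainComplex.singleFunctor C 0).obj A).d 0 1) 0,
      zero_comp, comp_zero]
  · refine ShortComplex.exact_of_iso ?_ h1
    exact ShortComplex.isoMk (HomologicalComplex.singleObjXSelf (ComplexShape.up ℤ) 0 A)
      (Iso.refl _) (Iso.refl _)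
      ((Iso.hom_inv_id_assoc _ _).trans (Category.comp_id _).symm)
      ((Category.id_comp _).trans (Category.comp_id _).symm)
  · haveI : Mono (φ.f 0) := h2
    infer_instance

variable (Y : K Δ ⥤ TopCat.{u})

instance (priority := 10000) preservesFiniteLimits_θS : PreservesFiniteLimits (θS Y) :=
  haveI : PreservesLimitsOfSize.{0, 0} (θS Y) := (θAdj Y).rightAdjoint_preservesLimits
  PreservesLimitsOfSize.preservesFiniteLimits _

/-- The comparison of a sheaf with the direct image of a resolution of its inverse image. -/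
def kap (F : CohTop.Ab (base Y)) {J : CochainComplex (P₀ Y) ℤ}
    (ι₀ : (CochainComplex.singleFunctor (P₀ Y) 0).obj ((θP Y).obj F) ⟶ J) :
    (CochainComplex.singleFunctor (CohTop.Ab (base Y)) 0).obj F ⟶
      ((θS Y).mapHomologicalComplex (ComplexShape.up ℤ)).obj J :=
  (CochainComplex.singleFunctor (CohTop.Ab (base Y)) 0).map ((θAdj Y).unit.app F) ≫
    (HomologicalComplex.singleMapHomologicalComplex (θS Y) (ComplexShape.up ℤ) 0).inv.app ((θP Y).obj F) ≫
    ((θS Y).mapHomologicalComplex (ComplexShape.up ℤ)).map ι₀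

theorem exists_quasiIso_kap (hY : FibDesc.IsCohDescentTop Y) (F : CohTop.Ab (base Y)) :
    ∃ (J : CochainComplex (P₀ Y) ℤ) (_ : J.IsStrictlyGE 0) (_ : ∀ q, Injective (J.X q))
      (ι₀ : (CochainComplex.singleFunctor (P₀ Y) 0).obj ((θP Y).obj F) ⟶ J),
      QuasiIso ι₀ ∧ QuasiIso (kap Y F ι₀) := by
  obtain ⟨_, _, _, _, _, _, hb⟩ := hY
  have hgood := DerivedFF.good_of_bijective_map (θAdj Y) hb
  let R := injectiveResolution F
  let I := R.cochainComplex
  haveI : CochainComplex.IsStrictlyGE (((θP Y).mapHomologicalComplex (ComplexShape.up ℤ)).obj I) 0 := by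
    rw [CochainComplex.isStrictlyGE_iff]
    exact fun i hi => (θP Y).map_isZero (CochainComplex.isZero_of_isStrictlyGE I 0 i hi)
  obtain ⟨J, a, ha, hJ, hJ'⟩ := CochainComplex.Plus.modelCategoryQuillen.exists_quasiIso_injective
    (((θP Y).mapHomologicalComplex (ComplexShape.up ℤ)).obj I) 0
  haveI := ha
  haveI := hJ'
  let ι₀ : (CochainComplex.singleFunctor (P₀ Y) 0).obj ((θP Y).obj F) ⟶ J :=
    (HomologicalComplex.singleMapHomologicalComplex (θP Y) (ComplexShape.up ℤ) 0).inv.app F ≫
      ((θP Y).mapHomologicalComplex (ComplexShape.up ℤ)).map R.ι' ≫ a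
  haveI : QuasiIso (((θP Y).mapHomologicalComplex (ComplexShape.up ℤ)).map R.ι') := inferInstance
  refine ⟨J, inferInstance, hJ, ι₀, quasiIso_comp _ _, ?_⟩
  haveI := hgood I 0 inferInstance (fun i => inferInstance) J 0 inferInstance hJ a ha
  have e : kap Y F ι₀ = R.ι' ≫ DerivedFF.adjunct (θAdj Y) a := kap_gen (θAdj Y) F R.ι' a
  rw [e]
  exact quasiIso_comp _ _

variable {Y} {F : CohTop.Ab (base Y)} {J : CochainComplex (P₀ Y) ℤ}
  {ι₀ : (CochainComplex.singleFunctor (P₀ Y) 0).obj ((θP Y).obj F) ⟶ J}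

theorem isAcyclic_of_kap [J.IsStrictlyGE 0] (hJ : ∀ q, Injective (J.X q)) (hι : QuasiIso ι₀)
    (hk : QuasiIso (kap Y F ι₀)) : H16Derived.AcyclicLES.IsAcyclic (θS Y) ((θP Y).obj F) := by
  intro n hn
  obtain ⟨e⟩ := H16Derived.AcyclicLES.nonempty_rightDerived_iso (θS Y) J 0 hJ ι₀ n
  refine IsZero.of_iso ?_ e
  refine IsZero.of_iso ?_ (asIso (HomologicalComplex.homologyMap (kap Y F ι₀) (n : ℤ))).symm
  exact HomologicalComplex.ExactAt.isZero_homology
    (HomologicalComplex.exactAt_single_obj _ _ _ _ (by omega))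

theorem isIso_unit_of_kap [J.IsStrictlyGE 0] (hι : QuasiIso ι₀) (hk : QuasiIso (kap Y F ι₀)) :
    IsIso ((θAdj Y).unit.app F) := by
  let L := (θS Y).obj ((θP Y).obj F)
  let κ' := (HomologicalComplex.singleMapHomologicalComplex (θS Y) (ComplexShape.up ℤ) 0).inv.app ((θP Y).obj F) ≫
    ((θS Y).mapHomologicalComplex (ComplexShape.up ℤ)).map ι₀
  let a : (θP Y).obj F ⟶ J.X 0 :=
    (HomologicalComplex.singleObjXSelf (ComplexShape.up ℤ) 0 ((θP Y).obj F)).inv ≫ ι₀.f 0
  have hw : a ≫ J.d 0 1 = 0 := by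
    have h := ι₀.comm 0 1
    simp at h
    simp [a, h]
  have hz : IsZero (J.X (-1)) := CochainComplex.isZero_of_isStrictlyGE J 0 (-1) (by omega)
  haveI := hι
  haveI := hk
  obtain ⟨w₁, e₁, m₁⟩ := exact_of_quasiIso_single J ι₀ hz
  obtain ⟨w₂, e₂, m₂⟩ := exact_of_quasiIso_single _ (kap Y F ι₀) ((θS Y).map_isZero hz)
  haveI : Mono a := m₁
  haveI : Mono ((θS Y).map a) := inferInstance
  let T := (ShortComplex.mk a (J.d 0 1) hw).map (θS Y)
  have eT : T.Exact := by
    refine ((ShortComplex.mk a (J.d 0 1) hw).exact_and_mono_f_iff_f_is_kernel.1 ⟨e₁, m₁⟩).elim fun k => ?_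
    exact ((ShortComplex.mk a (J.d 0 1) hw).map (θS Y)).exact_of_f_is_kernel
      (isLimitForkMapOfIsLimit' (θS Y) hw k)
  let b := (θAdj Y).unit.app F ≫ (θS Y).map a
  have hb : (HomologicalComplex.singleObjXSelf (ComplexShape.up ℤ) 0 F).inv ≫ (kap Y F ι₀).f 0 = b := by
    simp [b, a, kap, CochainComplex.singleFunctor, CochainComplex.singleFunctors,
      HomologicalComplex.singleMapHomologicalComplex_inv_app_self, HomologicalComplex.single_map_f_self]
  haveI : Mono T.f := inferInstanceAs (Mono ((θS Y).map a))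
  haveI : Mono b := hb ▸ m₂
  let S₂ := ShortComplex.mk b T.g (by
    show (_ ≫ _) ≫ (θS Y).map (J.d 0 1) = 0
    rw [Category.assoc, ← Functor.map_comp, hw, Functor.map_zero, comp_zero])
  have eS : S₂.Exact := by
    refine ShortComplex.exact_of_iso ?_ e₂
    exact ShortComplex.isoMk (Iso.refl _) (Iso.refl _) (Iso.refl _) (by simp [S₂, hb]) (by simp [S₂, T])
  let k₁ := eS.fIsKernel
  let k₂ := eT.fIsKernel
  have hu : (θAdj Y).unit.app F = (IsLimit.conePointUniqueUpToIso k₁ k₂).hom := by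
    rw [← cancel_mono T.f]
    exact (IsLimit.conePointUniqueUpToIso_hom_comp k₁ k₂ WalkingParallelPair.zero).symm
  rw [hu]
  infer_instance

variable (Y)

theorem isCohDescentTop_of_kap
    (h : ∀ F : CohTop.Ab (base Y), ∃ (J : CochainComplex (P₀ Y) ℤ) (_ : J.IsStrictlyGE 0)
      (_ : ∀ q, Injective (J.X q))
      (ι₀ : (CochainComplex.singleFunctor (P₀ Y) 0).obj ((θP Y).obj F) ⟶ J),
      QuasiIso ι₀ ∧ QuasiIso (kap Y F ι₀)) :
    FibDesc.IsCohDescentTop Y := by
  have hac : ∀ X : CohTop.Ab (base Y), H16Derived.AcyclicLES.IsAcyclic (θS Y) ((θP Y).obj X) := fun X => by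
    obtain ⟨J, hge, hJ, ι₀, h1, h2⟩ := h X
    haveI := hge
    exact isAcyclic_of_kap hJ h1 h2
  have hunit : ∀ X : CohTop.Ab (base Y), IsIso ((θAdj Y).unit.app X) := fun X => by
    obtain ⟨J, hge, hJ, ι₀, h1, h2⟩ := h X
    haveI := hge
    exact isIso_unit_of_kap h1 h2
  haveI : (FibDesc.eps (F Y)).IsContinuous (OpensFib.J Y (FibDesc.bot Δ))
    (FibDesc.totAug (F Y) (OpensFib.J Y)) := isContinuous_eps Y
  refine ⟨inferInstance, inferInstance, inferInstance, inferInstance, inferInstance,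
    preservesFiniteLimits_θP Y, ?_⟩
  intro K₀ L₀
  obtain ⟨b, hb⟩ := L₀.property
  haveI := hb
  refine DerivedFF.bijective_map (θAdj Y) ?_ K₀.obj L₀.obj b
  intro I i hI hIinj J j hJ hJinj a ha
  haveI := hI
  haveI := hJ
  haveI := ha
  let P := ((θP Y).mapHomologicalComplex (ComplexShape.up ℤ)).obj I
  let c := min i j
  haveI : I.IsStrictlyGE c := CochainComplex.isStrictlyGE_of_ge I c i (min_le_left _ _)
  haveI : J.IsStrictlyGE c := CochainComplex.isStrictlyGE_of_ge J c j (min_le_right _ _)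
  haveI : CochainComplex.IsStrictlyGE P c := by
    rw [CochainComplex.isStrictlyGE_iff]
    exact fun k hk => (θP Y).map_isZero (CochainComplex.isZero_of_isStrictlyGE I c k hk)
  haveI := H16Derived.AcyclicLES.quasiIso_map (θS Y) a c (fun k => hac (I.X k))
    (fun k => haveI := hJinj k; H16Derived.AcyclicLES.isAcyclic_of_injective (θS Y) (J.X k))
  let u : I ≅ ((θS Y).mapHomologicalComplex (ComplexShape.up ℤ)).obj P :=
    HomologicalComplex.Hom.isoOfComponents
      (fun k => @asIso _ _ _ _ ((θAdj Y).unit.app (I.X k)) (hunit (I.X k)))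
      (fun k l _ => ((θAdj Y).unit.naturality (I.d k l)).symm)
  rw [show DerivedFF.adjunct (θAdj Y) a = u.hom ≫ ((θS Y).mapHomologicalComplex (ComplexShape.up ℤ)).map a by
    ext k
    rfl]
  exact quasiIso_comp _ _

end Groth.Agent.H15Site.DescTri
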