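import Groth.Agent.H15Site.DescTri.TotSys
import Groth.Agent.H15Site.DescTri.Resolve

/-!
# The Godement resolution on a total site
-/

set_option autoImplicit false
set_option linter.style.haveILetI false
set_option linter.unusedSectionVars false
set_option backward.isDefEq.respectTransparency false
set_option backward.isDefEq.respectTransparency.types false

universe u

open CategoryTheory CategoryTheory.Limits Opposite Pseudofunctor Pseudofunctor.CoGrothendieck
open TopologicalSpace Groth.Agent.H15Site.OpensFib Groth.Agent.H15Site.DescSimp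

noncomputable section

namespace Groth.Agent.H15Site.DescTri

attribute [local instance 10000] SiteInst.hasSheafifySite SiteInst.hasWeakSheafifySite
  SiteInst.hasExtSite SiteInst.enoughInjSite

variable (Y : K Δ ⥤ TopCat.{u})

/-- Restriction to the plain part. -/
abbrev inclP : TA Y ⥤ P₀ Y := SplitDescent.inclS Y

/-- Restriction is left adjoint to extension. -/
abbrev adjI : inclP Y ⊣ OpensRestrict.ranS Y :=
  (FibDesc.incl (F Y)).sheafAdjunctionCocontinuous AddCommGrpCat.{u} (FibDesc.totPart (F Y) (J Y))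
    (FibDesc.totAug (F Y) (J Y))

instance (priority := 10000) additive_inclP : (inclP Y).Additive := { }

instance isIso_counitI (N : P₀ Y) : IsIso ((adjI Y).counit.app N) := by
  rw [← isIso_iff_of_reflects_iso _ (sheafToPresheaf _ _)]
  show IsIso ((adjI Y).counit.app N).hom
  rw [Functor.sheafAdjunctionCocontinuous_counit_app_hom, Functor.ranAdjunction_counit]
  infer_instance

instance isIso_inclP_unit (T : TA Y) : IsIso ((inclP Y).map ((adjI Y).unit.app T)) := by
  have h := (adjI Y).left_triangle_components T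
  haveI : IsIso ((inclP Y).map ((adjI Y).unit.app T) ≫ (adjI Y).counit.app ((inclP Y).obj T)) := by
    rw [h]; exact IsIso.id _
  exact IsIso.of_isIso_comp_right _ ((adjI Y).counit.app ((inclP Y).obj T))

instance isIso_restrA_unit (T : TA Y) (n : Δᵒᵖ) :
    IsIso ((restrA Y ((FibDesc.toAug Δ).obj n)).map ((adjI Y).unit.app T)) := by
  rw [← isIso_iff_of_reflects_iso _ (sheafToPresheaf _ _), NatTrans.isIso_iff_isIso_app]
  intro U
  have h : IsIso ((inclP Y).map ((adjI Y).unit.app T)).hom :=
    (isIso_iff_of_reflects_iso _ (sheafToPresheaf _ _)).2 (isIso_inclP_unit Y T)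
  exact (NatTrans.isIso_iff_isIso_app _).1 h (op ((ι (FibDesc.part (F Y)) n).obj U.unop))

variable {S : TopCat.{u}} (b : base Y ⟶ S) (M : Sys S)

/-- The sheaf on the base. -/
abbrev F₀ : CohTop.Ab (base Y) := M.obj (pk Y b (FibDesc.bot Δ))

/-- The inverse image to the plain part. -/
def eps : (θP Y).obj (F₀ Y b M) ⟶ (inclP Y).obj (tot Y b M) :=
  ((θAdj Y).homEquiv _ _).symm ((restrTotIso Y b M (FibDesc.bot Δ)).inv ≫
    (restrA Y (FibDesc.bot Δ)).map ((adjI Y).unit.app (tot Y b M)))

lemma eta_Col_eps (k : K Δ) :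
    (eta Y k).app (F₀ Y b M) ≫ (Col Y k).map (eps Y b M) =
      ((PullCoh.adjP (tB Y k)).homEquiv _ _).symm
        (M.res (tB Y k) (pk Y b (FibDesc.bot Δ)) (pk Y b k) (map_pk Y b ((botTerminal (D := Δ)).from k))) ≫
      (restrTotIso Y b M k).inv ≫ (restrA Y k).map ((adjI Y).unit.app (tot Y b M)) := by
  let a := PullCoh.adjP (tB Y k)
  apply (a.homEquiv _ _).injective
  rw [a.homEquiv_naturality_right, a.homEquiv_naturality_right, Equiv.apply_symm_apply]
  refine (congrArg (· ≫ _) (Equiv.apply_symm_apply (a.homEquiv _ _) ((toLevel Y k).app (F₀ Y b M)))).trans ?_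
  let β := (botTerminal (D := Δ)).from k
  let u := (adjI Y).unit.app (tot Y b M)
  have h1 := (str β).naturality ((OpensRestrict.ranS Y).map (eps Y b M))
  have h2 := (str β).naturality u
  have h3 := str_tot Y b M β
  have h4 : (θAdj Y).unit.app (F₀ Y b M) ≫ (θS Y).map (eps Y b M) =
      (restrTotIso Y b M (FibDesc.bot Δ)).inv ≫ (restrA Y (FibDesc.bot Δ)).map u :=
    ((θAdj Y).homEquiv_unit _ _ _).symm.trans (Equiv.apply_symm_apply _ _)
  show ((θAdj Y).unit.app (F₀ Y b M) ≫ (str β).app _) ≫ (CohTop.push (tB Y k)).map _ = _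
  refine (Category.assoc _ _ _).trans ((congrArg (_ ≫ ·) h1.symm).trans ?_)
  refine (Category.assoc _ _ _).symm.trans ((congrArg (· ≫ (str β).app _) h4).trans ?_)
  refine (Category.assoc _ _ _).trans ((congrArg (_ ≫ ·) h2).trans ?_)
  refine Eq.trans ?_ (congrArg (M.res (tB Y k) (pk Y b (FibDesc.bot Δ)) (pk Y b k) (map_pk Y b β) ≫ ·)
    ((CohTop.push (tB Y k)).map_comp _ _).symm)
  refine (Category.assoc _ _ _).symm.trans (Eq.trans ?_ (Category.assoc _ _ _))
  refine congrArg (· ≫ (CohTop.push (tB Y k)).map ((restrA Y k).map u)) ?_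
  have h5 : (str β).app (tot Y b M) = (restrTotIso Y b M (FibDesc.bot Δ)).hom ≫
      M.res (tB Y k) (pk Y b (FibDesc.bot Δ)) (pk Y b k) (map_pk Y b β) ≫
        (CohTop.push (tB Y k)).map (restrTotIso Y b M k).inv := by
    refine Eq.trans ?_ ((congrArg (· ≫ (CohTop.push (tB Y k)).map (restrTotIso Y b M k).inv) h3).trans
      (Category.assoc _ _ _))
    refine (Category.comp_id _).symm.trans (Eq.trans ?_ (Category.assoc _ _ _).symm)
    refine congrArg (_ ≫ ·) ?_
    refine Eq.trans ?_ ((CohTop.push (tB Y k)).map_comp _ _)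
    exact ((congrArg (CohTop.push (tB Y k)).map (restrTotIso Y b M k).hom_inv_id).trans
      ((CohTop.push (tB Y k)).map_id _)).symm
  exact (congrArg (_ ≫ ·) h5).trans (Iso.inv_hom_id_assoc _ _)

theorem isIso_eps (hM : M.IsCart) : IsIso (eps Y b M) := by
  rw [← isIso_iff_of_reflects_iso _ (sheafToPresheaf _ _), NatTrans.isIso_iff_isIso_app]
  rintro ⟨⟨n, U⟩⟩
  let k := (FibDesc.toAug Δ).obj n
  haveI := hM (tB Y k) (pk Y b (FibDesc.bot Δ)) (pk Y b k) (map_pk Y b ((botTerminal (D := Δ)).from k))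
  haveI := isIso_restrA_unit Y (tot Y b M) n
  haveI : IsIso ((eta Y k).app (F₀ Y b M) ≫ (Col Y k).map (eps Y b M)) := by
    rw [eta_Col_eps]; infer_instance
  haveI : IsIso ((Col Y k).map (eps Y b M)) := IsIso.of_isIso_comp_left ((eta Y k).app (F₀ Y b M)) _
  haveI : IsIso ((restrP Y n).map (eps Y b M)) :=
    (NatIso.isIso_map_iff (colIsoP Y n) (eps Y b M)).1 inferInstance
  exact (NatTrans.isIso_iff_isIso_app _).1
    ((isIso_iff_of_reflects_iso ((restrP Y n).map (eps Y b M)) (sheafToPresheaf _ _)).2 inferInstance) (op U)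

section Resolution

/-- The terms of the resolution on the augmented total site. -/
def JX : ℤ → TA Y
  | Int.ofNat q => tot Y b (G M q)
  | Int.negSucc _ => (HasZeroObject.zero (C := TA Y)).choose

lemma isZero_JX (j : ℕ) : IsZero (JX Y b M (Int.negSucc j)) :=
  (HasZeroObject.zero (C := TA Y)).choose_spec

/-- The differential. -/
def Jd : ∀ q : ℤ, JX Y b M q ⟶ JX Y b M (q + 1)
  | Int.ofNat q => totMap Y b (dG M q)
  | Int.negSucc _ => 0

lemma totMap_comp_zero {A B C : Sys S} (φ : SysHom A B) (ψ : SysHom B C)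
    (h : ∀ {X : TopCat.{u}} (p : X ⟶ S), φ.app p ≫ ψ.app p = 0) : totMap Y b φ ≫ totMap Y b ψ = 0 := by
  refine ObjectProperty.hom_ext _ (NatTrans.ext (funext fun X => ?_))
  exact congrArg (fun t => t.hom.app (op (OpensFib.fib X.unop))) (h (pk Y b X.unop.base))

lemma Jd_Jd : ∀ q : ℤ, Jd Y b M q ≫ Jd Y b M (q + 1) = 0
  | Int.ofNat q => totMap_comp_zero Y b _ _ (fun p => dG_dG M p q)
  | Int.negSucc _ => zero_comp

/-- The Godement complex on the augmented total site. -/
def JG : CochainComplex (TA Y) ℤ := CochainComplex.of (JX Y b M) (Jd Y b M) (Jd_Jd Y b M)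

lemma JG_d (q : ℤ) : (JG Y b M).d q (q + 1) = Jd Y b M q := CochainComplex.of_d (JX Y b M) (Jd Y b M) q

/-- The augmentation on the augmented total site. -/
def augJ : (CochainComplex.singleFunctor (TA Y) 0).obj (tot Y b M) ⟶ JG Y b M :=
  HomologicalComplex.mkHomFromSingle (totMap Y b (toGodHom M)) (by
    intro j hj
    obtain rfl : (0 : ℤ) + 1 = j := hj
    rw [JG_d]
    exact totMap_comp_zero Y b (toGodHom M) (dG M 0) (fun p => toGod_dG M p 0))

/-- The complex on the plain part. -/
abbrev JP : CochainComplex (P₀ Y) ℤ :=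
  ((inclP Y).mapHomologicalComplex (ComplexShape.up ℤ)).obj (JG Y b M)

instance isStrictlyGE_JP : (JP Y b M).IsStrictlyGE 0 := by
  rw [CochainComplex.isStrictlyGE_iff]
  intro q hq
  obtain ⟨j, rfl⟩ := Int.eq_negSucc_of_lt_zero hq
  exact (inclP Y).map_isZero (isZero_JX Y b M j)

theorem exact_of_levels (T : ShortComplex (P₀ Y)) (h : ∀ n, (T.map (restrP Y n)).Exact) : T.Exact := by
  rw [ShortComplex.exact_iff_isZero_homology, IsZero.iff_id_eq_zero]
  refine ObjectProperty.hom_ext _ (NatTrans.ext (funext fun X => ?_))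
  obtain ⟨⟨n, U⟩⟩ := X
  have hz : IsZero ((restrP Y n).obj T.homology) :=
    IsZero.of_iso ((ShortComplex.exact_iff_isZero_homology _).1 (h n)) (T.mapHomologyIso (restrP Y n)).symm
  exact congrArg (fun t => t.hom.app (op U)) ((IsZero.iff_id_eq_zero _).1 hz)

/-- The levels on the plain part are the levels of the system. -/
def lvlIso (N : Sys S) (n : Δᵒᵖ) :
    (restrP Y n).obj ((inclP Y).obj (tot Y b N)) ≅ N.obj (pk Y b ((FibDesc.toAug Δ).obj n)) :=
  (fullyFaithfulSheafToPresheaf _ _).preimageIso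
    (NatIso.ofComponents (fun U => Iso.refl _) (fun {U V} r => by
      refine (Category.comp_id _).trans (Eq.trans ?_ (Category.id_comp _).symm)
      refine Eq.trans ?_ ((Category.comp_id _).symm.trans
        (((restrTot Y b N ((FibDesc.toAug Δ).obj n)).hom.naturality r).trans (Category.id_comp _)))
      refine congrArg (totPre Y b N).map (Quiver.Hom.unop_inj (hom_ext ?_))
      exact (FibDesc.toAug Δ).map_id n))

lemma lvlIso_nat {N N' : Sys S} (φ : SysHom N N') (n : Δᵒᵖ) :
    (restrP Y n).map ((inclP Y).map (totMap Y b φ)) ≫ (lvlIso Y b N' n).hom =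
      (lvlIso Y b N n).hom ≫ φ.app (pk Y b ((FibDesc.toAug Δ).obj n)) := by
  refine ObjectProperty.hom_ext _ (NatTrans.ext (funext fun U => ?_))
  rfl

theorem quasiIso_augJ :
    QuasiIso ((HomologicalComplex.singleMapHomologicalComplex (inclP Y) (ComplexShape.up ℤ) 0).inv.app (tot Y b M) ≫
      ((inclP Y).mapHomologicalComplex (ComplexShape.up ℤ)).map (augJ Y b M)) := by
  let φ := (HomologicalComplex.singleMapHomologicalComplex (inclP Y) (ComplexShape.up ℤ) 0).inv.app (tot Y b M) ≫
    ((inclP Y).mapHomologicalComplex (ComplexShape.up ℤ)).map (augJ Y b M)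
  let a := (inclP Y).map (totMap Y b (toGodHom M))
  have hf : (HomologicalComplex.singleObjXSelf (ComplexShape.up ℤ) 0 ((inclP Y).obj (tot Y b M))).inv ≫ φ.f 0 = a := by
    simp [φ, a, augJ, HomologicalComplex.singleMapHomologicalComplex_inv_app_self, CochainComplex.singleFunctor,
      CochainComplex.singleFunctors, ← Functor.map_comp]
  have hz : IsZero ((JP Y b M).X (-1)) := (inclP Y).map_isZero (isZero_JX Y b M 0)
  refine ⟨fun i => ?_⟩
  by_cases hi : i = 0
  · subst hi
    rw [quasiIsoAt_iff' φ (-1) 0 1 (by simp) (by simp)]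
    have z₀ : IsZero (((CochainComplex.singleFunctor (P₀ Y) 0).obj ((inclP Y).obj (tot Y b M))).X (-1)) :=
      HomologicalComplex.isZero_single_obj_X _ _ _ _ (by simp)
    have z₁ : IsZero (((CochainComplex.singleFunctor (P₀ Y) 0).obj ((inclP Y).obj (tot Y b M))).X 1) :=
      HomologicalComplex.isZero_single_obj_X _ _ _ _ (by simp)
    refine (ShortComplex.quasiIso_iff_of_zeros
      ((HomologicalComplex.shortComplexFunctor' (P₀ Y) (ComplexShape.up ℤ) (-1) 0 1).map φ)
      (z₀.eq_of_src _ _) (z₁.eq_of_tgt _ _) (hz.eq_of_src _ _)).2 ?_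
    have hw : a ≫ (JP Y b M).d 0 1 = 0 := by
      show (inclP Y).map _ ≫ (inclP Y).map ((JG Y b M).d 0 ((0 : ℤ) + 1)) = 0
      rw [JG_d, ← Functor.map_comp]
      exact (congrArg (inclP Y).map (totMap_comp_zero Y b (toGodHom M) (dG M 0) (fun p => toGod_dG M p 0))).trans
        (Functor.map_zero _ _ _)
    let T := ShortComplex.mk a ((JP Y b M).d 0 1) hw
    have hmono : Mono a := by
      haveI : ∀ X, Mono (a.hom.app X) := fun X =>
        haveI : Mono (Godement.toGod.app (M.obj (pk Y b ((FibDesc.toAug Δ).obj X.unop.base)))) :=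
          Godement.mono_toGod _
        inferInstanceAs (Mono ((sheafToPresheaf _ _ ⋙ (evaluation _ _).obj (op
          (show Opens (Y.obj ((FibDesc.toAug Δ).obj X.unop.base)) from X.unop.fiber))).map
          (Godement.toGod.app (M.obj (pk Y b ((FibDesc.toAug Δ).obj X.unop.base))))))
      haveI : Mono a.hom := NatTrans.mono_of_mono_app _
      exact (sheafToPresheaf _ _).mono_of_mono_map this
    refine ⟨?_, ?_⟩
    · refine ShortComplex.exact_of_iso ?_ (exact_of_levels Y T fun n => ?_)
      · exact ShortComplex.isoMk (HomologicalComplex.singleObjXSelf (ComplexShape.up ℤ) 0 _).symm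
          (Iso.refl _) (Iso.refl _) (hf.trans (Category.comp_id _).symm)
          ((Category.id_comp _).trans (Category.comp_id _).symm)
      · refine ShortComplex.exact_of_iso ?_ (exact_toGod M (pk Y b ((FibDesc.toAug Δ).obj n)))
        refine ShortComplex.isoMk (lvlIso Y b M n).symm (lvlIso Y b (G M 0) n).symm (lvlIso Y b (G M 1) n).symm ?_ ?_
        · refine (Iso.inv_comp_eq _).2 (Eq.trans ?_ (Category.assoc _ _ _))
          exact (Iso.eq_comp_inv _).2 (lvlIso_nat Y b (toGodHom M) n)
        · refine (Iso.inv_comp_eq _).2 (Eq.trans ?_ (Category.assoc _ _ _))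
          refine (Iso.eq_comp_inv _).2 ?_
          show (restrP Y n).map ((inclP Y).map ((JG Y b M).d 0 ((0 : ℤ) + 1))) ≫ _ = _
          rw [JG_d]
          exact lvlIso_nat Y b (dG M 0) n
    · haveI := hmono
      show Mono (φ.f 0)
      rw [show φ.f 0 = (HomologicalComplex.singleObjXSelf (ComplexShape.up ℤ) 0 _).hom ≫ a by
        rw [← hf, Iso.hom_inv_id_assoc]]
      infer_instance
  · rw [quasiIsoAt_iff_exactAt _ _ (HomologicalComplex.exactAt_single_obj _ _ _ _ hi)]
    rcases Int.lt_or_le i 0 with h | h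
    · obtain ⟨j, rfl⟩ := Int.eq_negSucc_of_lt_zero h
      exact ShortComplex.exact_of_isZero_X₂ _ ((inclP Y).map_isZero (isZero_JX Y b M j))
    · obtain ⟨q, rfl⟩ : ∃ q : ℕ, i = Int.ofNat (q + 1) := ⟨(i - 1).toNat, by simp; omega⟩
      rw [HomologicalComplex.exactAt_iff' _ (Int.ofNat q) (Int.ofNat (q + 1)) (Int.ofNat (q + 1) + 1)
        (by simp) (by simp)]
      refine exact_of_levels Y _ fun n => ?_
      refine ShortComplex.exact_of_iso ?_ (exact_dG M (pk Y b ((FibDesc.toAug Δ).obj n)) q)
      refine ShortComplex.isoMk (lvlIso Y b (G M q) n).symm (lvlIso Y b (G M (q + 1)) n).symm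
        (lvlIso Y b (G M (q + 1 + 1)) n).symm ?_ ?_
      · refine (Iso.inv_comp_eq _).2 (Eq.trans ?_ (Category.assoc _ _ _))
        refine (Iso.eq_comp_inv _).2 ?_
        show (restrP Y n).map ((inclP Y).map ((JG Y b M).d (Int.ofNat q) (Int.ofNat q + 1))) ≫ _ = _
        rw [JG_d]
        exact lvlIso_nat Y b (dG M q) n
      · refine (Iso.inv_comp_eq _).2 (Eq.trans ?_ (Category.assoc _ _ _))
        refine (Iso.eq_comp_inv _).2 ?_
        show (restrP Y n).map ((inclP Y).map ((JG Y b M).d (Int.ofNat (q + 1)) (Int.ofNat (q + 1) + 1))) ≫ _ = _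
        rw [JG_d]
        exact lvlIso_nat Y b (dG M (q + 1)) n

theorem flasque_JG (q : ℤ) (k : K Δ) : H10Coh.Flasque ((restrA Y k).obj ((JG Y b M).X q)) := by
  match q with
  | Int.ofNat q => exact DescTop.flasque_of_iso (restrTotIso Y b (G M q) k) (flasque_G M q _)
  | Int.negSucc j =>
    intro U V h s
    refine ⟨0, ?_⟩
    rw [map_zero]
    exact (AddCommGrpCat.subsingleton_of_isZero ((sheafToPresheaf _ _ ⋙
      (evaluation (Opens (Y.obj k))ᵒᵖ AddCommGrpCat.{u}).obj (op V)).map_isZero
      ((restrA Y k).map_isZero (isZero_JX Y b M j)))).elim _ _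

end Resolution

end Groth.Agent.H15Site.DescTri
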