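import Groth.Agent.H15Site.DescTri.Tot
import Groth.Agent.H15Site.AbComplexElem

/-!
# Total exactness along maps of double complexes
-/

set_option autoImplicit false
set_option linter.style.haveILetI false
set_option linter.unusedSectionVars false
set_option backward.isDefEq.respectTransparency false

universe u

open CategoryTheory CategoryTheory.Limits
open Groth.Agent.H15Site.DoubleSS (Dbl sgn sgn_pred)

namespace Groth.Agent.H15Site.DescTri

section Elem

variable {K L : CochainComplex AddCommGrpCat.{u} ℤ} (φ : K ⟶ L)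

/-- Exactness of the cone on families. -/
def ColExact : Prop :=
  ∀ (u : ∀ q, K.X q) (v : ∀ q, L.X q), (∀ q, (K.d (q - 1) q).hom (u (q - 1)) = 0) →
    (∀ q, (φ.f q).hom (u q) + (L.d (q - 1) q).hom (v (q - 1)) = 0) →
    ∃ (a : ∀ q, K.X q) (b : ∀ q, L.X q), (∀ q, -(K.d (q - 1) q).hom (a (q - 1)) = u q) ∧
      ∀ q, (φ.f q).hom (a q) + (L.d (q - 1) q).hom (b (q - 1)) = v q

/-- A homomorphism from `ℤ`. -/
noncomputable def elemHom {A : AddCommGrpCat.{u}} (x : A) : AddCommGrpCat.of (ULift.{u} ℤ) ⟶ A :=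
  AddCommGrpCat.ofHom ((zmultiplesHom A x).comp AddEquiv.ulift.toAddMonoidHom)

lemma elemHom_one {A : AddCommGrpCat.{u}} (x : A) : (elemHom x).hom (ULift.up 1) = x := by
  show (zmultiplesHom A x) 1 = x
  simp

lemma elemHom_comp {A B : AddCommGrpCat.{u}} (x : A) (f : A ⟶ B) : elemHom x ≫ f = elemHom (f.hom x) := by
  refine AddCommGrpCat.ext fun ⟨n⟩ => ?_
  show f.hom ((zmultiplesHom A x) n) = (zmultiplesHom B (f.hom x)) n
  simp

theorem colExact_of_quasiIso [QuasiIso φ] : ColExact φ := by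
  intro u v hu hv
  have hloc : ∀ i j (_ : i + 1 = j), ∃ a : K.X i, -(K.d i j).hom a = u j ∧ ∀ h (_ : h + 1 = i),
      ∃ b : L.X h, (φ.f i).hom a + (L.d h i).hom b = v i := by
    intro i j hij
    obtain rfl : i = j - 1 := by omega
    have hm : Mono (HomologicalComplex.homologyMap φ j) := inferInstance
    rw [HomologicalComplex.mono_homologyMap_iff_up_to_refinements φ (j - 1) j (j + 1) (by simp) (by simp)] at hm
    have hcyc : elemHom (u j) ≫ K.d j (j + 1) = 0 := by
      rw [elemHom_comp]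
      have h := hu (j + 1)
      have gen : ∀ a (_ : a = j), (K.d a (j + 1)).hom (u a) = 0 → (K.d j (j + 1)).hom (u j) = 0 := by
        rintro a rfl hh; exact hh
      rw [gen _ (by omega) h]
      refine AddCommGrpCat.ext fun ⟨n⟩ => ?_
      show (zmultiplesHom (K.X (j + 1)) 0) n = 0
      simp
    obtain ⟨A, π, hπ, x₁, hx₁⟩ := hm (elemHom (u j)) hcyc (elemHom (-(v (j - 1)))) (by
      rw [elemHom_comp, elemHom_comp]
      congr 1
      rw [map_neg]
      exact eq_neg_of_add_eq_zero_left (hv j))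
    obtain ⟨c, hc⟩ := (AddCommGrpCat.epi_iff_surjective π).1 hπ (ULift.up 1)
    have hc' : (K.d (j - 1) j).hom (x₁.hom c) = u j := by
      refine (ConcreteCategory.congr_hom hx₁ c).symm.trans ?_
      show (elemHom (u j)).hom (π.hom c) = _
      rw [hc, elemHom_one]
    let y : L.X (j - 1) := v (j - 1) + (φ.f (j - 1)).hom (x₁.hom c)
    have he : Epi (HomologicalComplex.homologyMap φ (j - 1)) := inferInstance
    rw [HomologicalComplex.epi_homologyMap_iff_up_to_refinements φ (j - 1 - 1) (j - 1) j (by simp) (by simp)] at he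
    have hy : (L.d (j - 1) j).hom y = 0 := by
      have hcomm : (L.d (j - 1) j).hom ((φ.f (j - 1)).hom (x₁.hom c)) = (φ.f j).hom (u j) := by
        refine (ConcreteCategory.congr_hom (φ.comm (j - 1) j) _).trans ?_
        exact congrArg (φ.f j).hom hc'
      rw [map_add, hcomm, add_comm]
      exact hv j
    obtain ⟨A', π', hπ', x, hx, w, hxw⟩ := he (elemHom y) (by
      rw [elemHom_comp, hy]
      refine AddCommGrpCat.ext fun ⟨n⟩ => ?_
      show (zmultiplesHom (L.X j) 0) n = 0
      simp)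
    obtain ⟨c', hc''⟩ := (AddCommGrpCat.epi_iff_surjective π').1 hπ' (ULift.up 1)
    refine ⟨-(x₁.hom c) + x.hom c', ?_, fun h hh => ?_⟩
    · rw [map_add, map_neg, show (K.d (j - 1) j).hom (x.hom c') = 0 from ConcreteCategory.congr_hom hx c',
        add_zero, neg_neg]
      exact hc'
    · obtain rfl : h = j - 1 - 1 := by omega
      refine ⟨w.hom c', ?_⟩
      have h2 : y = (φ.f (j - 1)).hom (x.hom c') + (L.d (j - 1 - 1) (j - 1)).hom (w.hom c') := by
        refine Eq.trans ?_ (ConcreteCategory.congr_hom hxw c')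
        show y = (elemHom y).hom (π'.hom c')
        rw [hc'', elemHom_one]
      rw [map_add, map_neg, add_assoc, ← h2]
      show -_ + (v (j - 1) + _) = _
      abel
  choose A hA hA' using hloc
  choose B hB using hA'
  have e1 : ∀ i j (h : i + 1 = j), -(K.d i j).hom (A i (i + 1) rfl) = u j := by
    rintro i j rfl; exact hA i _ rfl
  have e2 : ∀ i j (h : i + 1 = j), (φ.f j).hom (A j (j + 1) rfl) +
      (L.d i j).hom (B (i + 1) (i + 1 + 1) rfl i rfl) = v j := by
    rintro i j rfl; exact hB _ _ rfl i rfl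
  exact ⟨fun i => A i (i + 1) rfl, fun i => B (i + 1) (i + 1 + 1) rfl i rfl,
    fun q => e1 (q - 1) q (by omega), fun q => e2 (q - 1) q (by omega)⟩

open Classical in
theorem quasiIso_of_colExact (h : ColExact φ) : QuasiIso φ := by
  let sgl : ∀ {M : CochainComplex AddCommGrpCat.{u} ℤ} (i : ℤ), M.X i → ∀ q, M.X q :=
    fun i x q => if e : i = q then e ▸ x else 0
  have sgl_self : ∀ {M : CochainComplex AddCommGrpCat.{u} ℤ} (i : ℤ) (x : M.X i), sgl i x i = x :=
    fun i x => dif_pos rfl
  have sgl_ne : ∀ {M : CochainComplex AddCommGrpCat.{u} ℤ} (i : ℤ) (x : M.X i) (q : ℤ), i ≠ q →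
      sgl i x q = 0 := fun i x q hq => dif_neg hq
  refine quasiIso_of_elementwise φ (fun i x hx y hy => ?_) (fun i y hy => ?_)
  · have hp : (ComplexShape.up ℤ).prev i = i - 1 := by simp
    have hn : (ComplexShape.up ℤ).next i = i + 1 := by simp
    revert y
    rw [hp]
    intro y hy
    rw [hn] at hx
    obtain ⟨a, b, ha, -⟩ := h (sgl i x) (sgl (i - 1) (-y)) (fun q => by
      by_cases e : i = q - 1
      · obtain rfl : q = i + 1 := by omega
        have gen : ∀ k (_ : k = i), (K.d k (i + 1)).hom (sgl i x k) = 0 := by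
          rintro k rfl; rw [sgl_self]; exact hx
        exact gen _ (by omega)
      · rw [sgl_ne i x _ e, map_zero]) (fun q => by
      by_cases e : i = q
      · subst e
        rw [sgl_self, sgl_self, map_neg]
        exact add_neg_eq_zero.2 hy
      · rw [sgl_ne i x _ e, sgl_ne (i - 1) (-y) _ (by omega), map_zero, map_zero, add_zero])
    refine ⟨-a (i - 1), ?_⟩
    show (K.d (i - 1) i).hom (-a (i - 1)) = x
    rw [map_neg, ha i, sgl_self]
  · have hp : (ComplexShape.up ℤ).prev i = i - 1 := by simp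
    have hn : (ComplexShape.up ℤ).next i = i + 1 := by simp
    rw [hn] at hy ⊢
    rw [hp]
    obtain ⟨a, b, ha, hb⟩ := h 0 (sgl i y) (fun q => map_zero _) (fun q => by
      show (φ.f q).hom (0 : K.X q) + _ = 0
      rw [map_zero, zero_add]
      by_cases e : i = q - 1
      · obtain rfl : q = i + 1 := by omega
        have gen : ∀ k (_ : k = i), (L.d k (i + 1)).hom (sgl i y k) = 0 := by
          rintro k rfl; rw [sgl_self]; exact hy
        exact gen _ (by omega)
      · rw [sgl_ne i y _ e, map_zero])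
    refine ⟨a i, b (i - 1), ?_, ?_⟩
    · have h2 := ha (i + 1)
      have gen : ∀ k (_ : k = i), -(K.d k (i + 1)).hom (a k) = 0 → (K.d i (i + 1)).hom (a i) = 0 := by
        rintro k rfl hh; exact neg_eq_zero.1 hh
      exact gen _ (by omega) h2
    · rw [← sgl_self i y]
      exact (hb i).symm

end Elem

variable {D D' : Dbl.{u}} (g : D ⟶ D')

/-- A map of double complexes on families. -/
noncomputable def gF : Fam D →+ Fam D' where
  toFun x p q := ((g.f p).f q).hom (x p q)
  map_zero' := funext fun _ => funext fun _ => map_zero _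
  map_add' _ _ := funext fun _ => funext fun _ => map_add _ _ _

lemma comm_h (p p' q : ℤ) (x : (D.X p).X q) :
    ((D'.d p p').f q).hom (((g.f p).f q).hom x) = ((g.f p').f q).hom (((D.d p p').f q).hom x) :=
  ConcreteCategory.congr_hom (congrArg (fun φ : D.X p ⟶ D'.X p' => φ.f q) (g.comm p p')) x

lemma comm_v (p q q' : ℤ) (x : (D.X p).X q) :
    ((D'.X p).d q q').hom (((g.f p).f q).hom x) = ((g.f p).f q').hom (((D.X p).d q q').hom x) :=
  ConcreteCategory.congr_hom ((g.f p).comm q q') x

lemma gF_dTw (c : ℤ) (x : Fam D) : gF g (dTw D c x) = dTw D' c (gF g x) := by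
  funext p q
  show ((g.f p).f q).hom (_ + _ • _) = ((D'.d (p - 1) p).f q).hom _ + _ • ((D'.X p).d (q - 1) q).hom _
  rw [map_add, map_zsmul]
  exact congrArg₂ _ (comm_h g _ _ _ _).symm (congrArg _ (comm_v g _ _ _ _).symm)

/-- Exactness of the cone. -/
def ConeExact : Prop := ∀ u v, dTw D 0 u = 0 → gF g u + dTw D' 0 v = 0 →
  ∃ a b, -dTw D 0 a = u ∧ gF g a + dTw D' 0 b = v

theorem totExact_source (h : ConeExact g) (h' : TotExact D') : TotExact D := by
  intro u hu
  obtain ⟨v, hv⟩ := h' (gF g u) (by rw [← gF_dTw, hu, map_zero])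
  obtain ⟨a, b, ha, -⟩ := h u (-v) hu (by rw [map_neg, hv, add_neg_cancel])
  exact ⟨-a, by rw [map_neg, ha]⟩

theorem coneExact_of_totExact (h : TotExact D) (h' : TotExact D') : ConeExact g := by
  intro u v hu hv
  obtain ⟨a₀, ha₀⟩ := h u hu
  obtain ⟨b, hb⟩ := h' (v + gF g a₀) (by rw [map_add, ← gF_dTw, ha₀, add_comm, hv])
  exact ⟨-a₀, b, by rw [map_neg, neg_neg, ha₀], by rw [map_neg, hb]; abel⟩

section

variable (hD : ∀ p q, p < -1 → ∀ x : (D.X p).X q, x = 0) (hD' : ∀ p q, p < -1 → ∀ x : (D'.X p).X q, x = 0)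

/-- Both families of a column. -/
abbrev CG (p : ℤ) : Type u := (∀ q, (D.X p).X q) × ∀ q, (D'.X p).X q

/-- The vertical differential of the cone. -/
noncomputable def δC (p : ℤ) : CG (D := D) (D' := D') p →+ CG (D := D) (D' := D') p where
  toFun x := (fun q => -(sgn p • ((D.X p).d (q - 1) q).hom (x.1 (q - 1))),
    fun q => ((g.f p).f q).hom (x.1 q) + sgn p • ((D'.X p).d (q - 1) q).hom (x.2 (q - 1)))
  map_zero' := Prod.ext (funext fun q => by simp) (funext fun q => by simp)
  map_add' x y := Prod.ext (funext fun q => by simp [neg_add]; abel) (funext fun q => by simp; abel)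

/-- The horizontal differential of the cone. -/
noncomputable def fC (p p' : ℤ) : CG (D := D) (D' := D') p →+ CG (D := D) (D' := D') p' where
  toFun x := (fun q => -((D.d p p').f q).hom (x.1 q), fun q => ((D'.d p p').f q).hom (x.2 q))
  map_zero' := Prod.ext (funext fun q => by simp) (funext fun q => by simp)
  map_add' x y := Prod.ext (funext fun q => by simp [neg_add]; abel) (funext fun q => by simp)

lemma fC_fC (p : ℤ) (x : CG (D := D) (D' := D') (p - 1 - 1)) :
    fC (p - 1) p (fC (p - 1 - 1) (p - 1) x) = 0 := by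
  refine Prod.ext (funext fun q => ?_) (funext fun q => ?_)
  · show -((D.d (p - 1) p).f q).hom (-((D.d (p - 1 - 1) (p - 1)).f q).hom (x.1 q)) = 0
    rw [map_neg, neg_neg]
    exact ConcreteCategory.congr_hom (congrArg (fun φ : D.X (p - 1 - 1) ⟶ D.X p => φ.f q)
      (D.d_comp_d (p - 1 - 1) (p - 1) p)) _
  · exact ConcreteCategory.congr_hom (congrArg (fun φ : D'.X (p - 1 - 1) ⟶ D'.X p => φ.f q)
      (D'.d_comp_d (p - 1 - 1) (p - 1) p)) _

lemma fC_δC (p : ℤ) (x : CG (D := D) (D' := D') (p - 1)) :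
    fC (p - 1) p (δC g (p - 1) x) + δC g p (fC (p - 1) p x) = 0 := by
  have k1 : ∀ q y, ((D.X p).d (q - 1) q).hom (((D.d (p - 1) p).f (q - 1)).hom y) =
      ((D.d (p - 1) p).f q).hom (((D.X (p - 1)).d (q - 1) q).hom y) := fun q y =>
    ConcreteCategory.congr_hom ((D.d (p - 1) p).comm (q - 1) q) y
  have k2 : ∀ q y, ((D'.X p).d (q - 1) q).hom (((D'.d (p - 1) p).f (q - 1)).hom y) =
      ((D'.d (p - 1) p).f q).hom (((D'.X (p - 1)).d (q - 1) q).hom y) := fun q y =>
    ConcreteCategory.congr_hom ((D'.d (p - 1) p).comm (q - 1) q) y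
  refine Prod.ext (funext fun q => ?_) (funext fun q => ?_)
  · show -((D.d (p - 1) p).f q).hom (-(sgn (p - 1) • ((D.X (p - 1)).d (q - 1) q).hom (x.1 (q - 1)))) +
      -(sgn p • ((D.X p).d (q - 1) q).hom (-((D.d (p - 1) p).f (q - 1)).hom (x.1 (q - 1)))) = 0
    simp only [map_neg, map_zsmul, k1, sgn_pred]
    module
  · show ((D'.d (p - 1) p).f q).hom (((g.f (p - 1)).f q).hom (x.1 q) +
        sgn (p - 1) • ((D'.X (p - 1)).d (q - 1) q).hom (x.2 (q - 1))) +
      (((g.f p).f q).hom (-((D.d (p - 1) p).f q).hom (x.1 q)) +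
        sgn p • ((D'.X p).d (q - 1) q).hom (((D'.d (p - 1) p).f (q - 1)).hom (x.2 (q - 1)))) = 0
    simp only [map_add, map_neg, map_zsmul, k2, comm_h, sgn_pred]
    module

lemma exists_δC (p : ℤ) (h : ColExact (g.f p)) (x : CG (D := D) (D' := D') p) (hx : δC g p x = 0) :
    ∃ y, δC g p y = x := by
  have h1 : ∀ q, ((D.X p).d (q - 1) q).hom (x.1 (q - 1)) = 0 := fun q => by
    have := congrArg (sgn p • ·) (neg_eq_zero.1 (congrFun (congrArg Prod.fst hx) q))
    simpa [smul_smul, sgn_mul_self] using this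
  have h2 : ∀ q, ((g.f p).f q).hom (sgn p • x.1 q) + ((D'.X p).d (q - 1) q).hom (x.2 (q - 1)) = 0 := fun q => by
    have := congrArg (sgn p • ·) (congrFun (congrArg Prod.snd hx) q)
    simp only [δC] at this
    simpa [smul_smul, sgn_mul_self, map_zsmul, smul_add] using this
  obtain ⟨a, b, ha, hb⟩ := h (fun q => sgn p • x.1 q) x.2
    (fun q => by rw [map_zsmul, h1, smul_zero]) h2
  refine ⟨(a, fun q => sgn p • b q), Prod.ext (funext fun q => ?_) (funext fun q => ?_)⟩
  · show -(sgn p • ((D.X p).d (q - 1) q).hom (a (q - 1))) = x.1 q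
    rw [← smul_neg, ha q, smul_smul, sgn_mul_self, one_smul]
  · show ((g.f p).f q).hom (a q) + sgn p • ((D'.X p).d (q - 1) q).hom (sgn p • b (q - 1)) = x.2 q
    rw [map_zsmul, smul_smul, sgn_mul_self, one_smul]
    exact hb q

lemma tot_fst (u : Fam D) (v : Fam D') (p q : ℤ) :
    (fC (p - 1) p (u (p - 1), v (p - 1)) + δC g p (u p, v p)).1 q = -(dTw D 0 u p q) := by
  show -((D.d (p - 1) p).f q).hom (u (p - 1) q) + -(sgn p • ((D.X p).d (q - 1) q).hom (u p (q - 1))) =
    -(((D.d (p - 1) p).f q).hom (u (p - 1) q) + (sgn p * sgn 0) • ((D.X p).d (q - 1) q).hom (u p (q - 1)))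
  rw [sgn_zero, mul_one, neg_add]

lemma tot_snd (u : Fam D) (v : Fam D') (p q : ℤ) :
    (fC (p - 1) p (u (p - 1), v (p - 1)) + δC g p (u p, v p)).2 q = (gF g u + dTw D' 0 v) p q := by
  show ((D'.d (p - 1) p).f q).hom (v (p - 1) q) +
      (((g.f p).f q).hom (u p q) + sgn p • ((D'.X p).d (q - 1) q).hom (v p (q - 1))) =
    ((g.f p).f q).hom (u p q) + (((D'.d (p - 1) p).f q).hom (v (p - 1) q) +
      (sgn p * sgn 0) • ((D'.X p).d (q - 1) q).hom (v p (q - 1)))
  rw [sgn_zero, mul_one]
  abel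

include hD hD' in
theorem coneExact_of_cols (h : ∀ p, -1 ≤ p → ColExact (g.f p)) : ConeExact g := by
  intro u v hu hv
  have hz : ∀ p, p < -1 → ∀ x : CG (D := D) (D' := D') p, x = 0 := fun p hp x =>
    Prod.ext (funext fun q => hD p q hp _) (funext fun q => hD' p q hp _)
  have hex : ∀ p (x : CG (D := D) (D' := D') p), δC g p x = 0 → ∃ y, δC g p y = x := fun p x hx => by
    rcases Int.lt_or_le p (-1) with hp | hp
    · exact ⟨0, (map_zero _).trans (hz p hp x).symm⟩
    · exact exists_δC g p (h p hp) x hx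
  obtain ⟨w, hw⟩ := exists_primitive (G := fun p => CG (D := D) (D' := D') p) (δC g) fC fC_fC (fC_δC g)
    hz hex (fun p => (u p, v p)) (fun p => Prod.ext
      (funext fun q => (tot_fst g u v p q).trans (by rw [hu]; exact neg_zero))
      (funext fun q => (tot_snd g u v p q).trans (congrFun (congrFun hv p) q)))
  exact ⟨fun p => (w p).1, fun p => (w p).2,
    funext fun p => funext fun q => (tot_fst g (fun p => (w p).1) (fun p => (w p).2) p q).symm.trans (congrFun (congrArg Prod.fst (hw p)) q),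
    funext fun p => funext fun q => (tot_snd g _ _ p q).symm.trans (congrFun (congrArg Prod.snd (hw p)) q)⟩

include hD hD' in
theorem colExact_bot (h : ConeExact g) (hc : ∀ p, 0 ≤ p → ColExact (g.f p)) : ColExact (g.f (-1)) := by
  intro u v hu hv
  have hz : ∀ p, p < -1 → ∀ x : CG (D := D) (D' := D') p, x = 0 := fun p hp x =>
    Prod.ext (funext fun q => hD p q hp _) (funext fun q => hD' p q hp _)
  have hs : sgn (-1) = -1 := by simp [sgn]
  obtain ⟨Z, hZ₀, hZ⟩ := exists_cycle (G := fun p => CG (D := D) (D' := D') p) (δC g) fC fC_fC (fC_δC g)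
    (fun p hp x hx => exists_δC g p (hc p hp) x hx) hz (u, fun q => -v q) (Prod.ext (funext fun q => by
      show -(sgn (-1) • ((D.X (-1)).d (q - 1) q).hom (u (q - 1))) = 0
      rw [hu, smul_zero, neg_zero]) (funext fun q => by
      show ((g.f (-1)).f q).hom (u q) + sgn (-1) • ((D'.X (-1)).d (q - 1) q).hom (-v (q - 1)) = 0
      rw [hs, map_neg, neg_smul, one_smul, neg_neg]
      exact hv q))
  obtain ⟨a, b, ha, hb⟩ := h (fun p => (Z p).1) (fun p => (Z p).2)
    (funext fun p => funext fun q => neg_eq_zero.1 ((tot_fst g (fun p => (Z p).1) (fun p => (Z p).2) p q).symm.trans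
      (congrFun (congrArg Prod.fst (hZ p)) q)))
    (funext fun p => funext fun q => (tot_snd g _ _ p q).symm.trans
      (congrFun (congrArg Prod.snd (hZ p)) q))
  refine ⟨fun q => -a (-1) q, fun q => b (-1) q, fun q => ?_, fun q => ?_⟩
  · have h1 := congrFun (congrFun ha (-1)) q
    rw [show (Z (-1)).1 q = u q by rw [hZ₀]] at h1
    change -(((D.d (-1 - 1) (-1)).f q).hom (a (-1 - 1) q) +
      (sgn (-1) * sgn 0) • ((D.X (-1)).d (q - 1) q).hom (a (-1) (q - 1))) = u q at h1
    rw [hD (-1 - 1) q (by omega) (a (-1 - 1) q), map_zero, zero_add, hs, sgn_zero, mul_one, neg_smul,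
      one_smul, neg_neg] at h1
    rw [map_neg, neg_neg]
    exact h1
  · have h1 := congrFun (congrFun hb (-1)) q
    rw [show (Z (-1)).2 q = -v q by rw [hZ₀]] at h1
    change ((g.f (-1)).f q).hom (a (-1) q) + (((D'.d (-1 - 1) (-1)).f q).hom (b (-1 - 1) q) +
      (sgn (-1) * sgn 0) • ((D'.X (-1)).d (q - 1) q).hom (b (-1) (q - 1))) = -v q at h1
    rw [hD' (-1 - 1) q (by omega) (b (-1 - 1) q), map_zero, zero_add, hs, sgn_zero, mul_one, neg_smul,
      one_smul] at h1
    rw [map_neg, ← neg_neg (v q), ← h1]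
    abel

end

end Groth.Agent.H15Site.DescTri
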