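import Groth.Agent.H15Site.DescTri.Bridge
import Groth.Agent.H15Site.DescTri.AltCx

/-!
# Cohomological descent as exactness of totalisations of sections
-/

set_option autoImplicit false
set_option linter.style.haveILetI false
set_option linter.unusedSectionVars false
set_option backward.isDefEq.respectTransparency false
set_option backward.isDefEq.respectTransparency.types false

universe u

open CategoryTheory CategoryTheory.Limits Opposite Pseudofunctor Pseudofunctor.CoGrothendieck
open TopologicalSpace Groth.Agent.H15Site.OpensFib Groth.Agent.H15Site.DescSimp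

noncomputable section

namespace Groth.Agent.H15Site.DescTri

attribute [local instance 10000] SiteInst.hasSheafifySite SiteInst.hasWeakSheafifySite
  SiteInst.hasExtSite SiteInst.enoughInjSite

attribute [local instance] HasDerivedCategory.standard

/-- Sections over an open set. -/
abbrev ev {X : TopCat.{u}} (U : Opens X) : CohTop.Ab X ⥤ AddCommGrpCat.{u} :=
  sheafToPresheaf _ _ ⋙ (evaluation (Opens X)ᵒᵖ AddCommGrpCat.{u}).obj (op U)

theorem quasiIso_sections {X : TopCat.{u}} {A B : CochainComplex (CohTop.Ab X) ℤ} (φ : A ⟶ B) [QuasiIso φ]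
    [A.IsStrictlyGE 0] [B.IsStrictlyGE 0] (hA : ∀ q, H10Coh.Flasque (A.X q)) (hB : ∀ q, H10Coh.Flasque (B.X q))
    (U : Opens X) : QuasiIso (((ev U).mapHomologicalComplex (ComplexShape.up ℤ)).map φ) := by
  let sp := sheafToPresheaf (Opens.grothendieckTopology X) AddCommGrpCat.{u}
  haveI := (sheafificationAdjunction (Opens.grothendieckTopology X) AddCommGrpCat.{u}).rightAdjoint_preservesLimits
  haveI := H16Derived.AcyclicLES.quasiIso_map sp φ 0 (fun k => DescTop.isAcyclic_sp_of_flasque (hA k))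
    (fun k => DescTop.isAcyclic_sp_of_flasque (hB k))
  exact inferInstanceAs (QuasiIso ((((evaluation (Opens X)ᵒᵖ AddCommGrpCat.{u}).obj (op U)).mapHomologicalComplex
    (ComplexShape.up ℤ)).map ((sp.mapHomologicalComplex (ComplexShape.up ℤ)).map φ)))

theorem quasiIso_of_sections {X : TopCat.{u}} {A B : CochainComplex (CohTop.Ab X) ℤ} (φ : A ⟶ B)
    (h : ∀ U : Opens X, QuasiIso (((ev U).mapHomologicalComplex (ComplexShape.up ℤ)).map φ)) : QuasiIso φ := by
  let sp := sheafToPresheaf (Opens.grothendieckTopology X) AddCommGrpCat.{u}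
  let sh := presheafToSheaf (Opens.grothendieckTopology X) AddCommGrpCat.{u}
  let ψ := (sp.mapHomologicalComplex (ComplexShape.up ℤ)).map φ
  have hψ : QuasiIso ψ := ⟨fun i => by
    rw [quasiIsoAt_iff_isIso_homologyMap, NatTrans.isIso_iff_isIso_app]
    intro U
    let e := (evaluation (Opens X)ᵒᵖ AddCommGrpCat.{u}).obj U
    haveI := h U.unop
    haveI : IsIso (HomologicalComplex.homologyMap ((e.mapHomologicalComplex (ComplexShape.up ℤ)).map ψ) i) :=
      inferInstanceAs (IsIso (HomologicalComplex.homologyMap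
        (((ev U.unop).mapHomologicalComplex (ComplexShape.up ℤ)).map φ) i))
    have hn := ShortComplex.mapHomologyIso_hom_naturality
      ((HomologicalComplex.shortComplexFunctor _ (ComplexShape.up ℤ) i).map ψ) e
    have : IsIso ((((HomologicalComplex.shortComplexFunctor _ (ComplexShape.up ℤ) i).obj _).mapHomologyIso e).hom ≫
        e.map (ShortComplex.homologyMap ((HomologicalComplex.shortComplexFunctor _ (ComplexShape.up ℤ) i).map ψ))) := by
      rw [← hn]
      haveI : IsIso (ShortComplex.homologyMap (e.mapShortComplex.map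
          ((HomologicalComplex.shortComplexFunctor _ (ComplexShape.up ℤ) i).map ψ))) :=
        inferInstanceAs (IsIso (HomologicalComplex.homologyMap ((e.mapHomologicalComplex (ComplexShape.up ℤ)).map ψ) i))
      infer_instance
    refine (?_ : IsIso (e.map (ShortComplex.homologyMap
      ((HomologicalComplex.shortComplexFunctor _ (ComplexShape.up ℤ) i).map ψ))))
    haveI := this
    exact IsIso.of_isIso_comp_left
      (((HomologicalComplex.shortComplexFunctor _ (ComplexShape.up ℤ) i).obj _).mapHomologyIso e).hom _⟩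
  haveI : sh.Additive := (sheafificationAdjunction (Opens.grothendieckTopology X) AddCommGrpCat.{u}).left_adjoint_additive
  haveI : PreservesFiniteColimits sh :=
    haveI : PreservesColimitsOfSize.{0, 0} sh :=
      (sheafificationAdjunction (Opens.grothendieckTopology X) AddCommGrpCat.{u}).leftAdjoint_preservesColimits
    PreservesColimitsOfSize.preservesFiniteColimits _
  haveI := hψ
  haveI : QuasiIso ((sh.mapHomologicalComplex (ComplexShape.up ℤ)).map ψ) := inferInstance
  let c := (sheafificationAdjunction (Opens.grothendieckTopology X) AddCommGrpCat.{u}).counit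
  let e : ∀ L : CochainComplex (CohTop.Ab X) ℤ,
      (sh.mapHomologicalComplex (ComplexShape.up ℤ)).obj ((sp.mapHomologicalComplex (ComplexShape.up ℤ)).obj L) ≅ L :=
    fun L => HomologicalComplex.Hom.isoOfComponents (fun q => asIso (c.app (L.X q)))
      (fun p q _ => (c.naturality (L.d p q)).symm)
  have hsq : (sh.mapHomologicalComplex (ComplexShape.up ℤ)).map ψ ≫ (e B).hom = (e A).hom ≫ φ :=
    HomologicalComplex.hom_ext _ _ fun q => c.naturality (φ.f q)
  haveI : QuasiIso ((e A).hom ≫ φ) := hsq ▸ inferInstance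
  exact quasiIso_of_comp_left (e A).hom φ

section Aux

open HomologicalComplex in
theorem aux_f0 {A B T : Type (u + 1)} [Category.{u} A] [Category.{u} B] [Category.{u} T] [Abelian A] [Abelian B]
    [Abelian T] (G : B ⥤ A) (I : T ⥤ B) [G.Additive] [I.Additive] {X : A} {P : B} (u : X ⟶ G.obj P)
    {M : T} (e : P ⟶ I.obj M) {L : CochainComplex T ℤ} (φ : (CochainComplex.singleFunctor T 0).obj M ⟶ L)
    {J : CochainComplex B ℤ} (g : (I.mapHomologicalComplex (ComplexShape.up ℤ)).obj L ⟶ J) (a : M ⟶ L.X 0)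
    (ha : φ.f 0 = (singleObjXSelf (ComplexShape.up ℤ) 0 M).hom ≫ a) :
    ((CochainComplex.singleFunctor A 0).map u ≫
      (singleMapHomologicalComplex G (ComplexShape.up ℤ) 0).inv.app P ≫
      (G.mapHomologicalComplex (ComplexShape.up ℤ)).map
        (((CochainComplex.singleFunctor B 0).map e ≫
          (singleMapHomologicalComplex I (ComplexShape.up ℤ) 0).inv.app M ≫
          (I.mapHomologicalComplex (ComplexShape.up ℤ)).map φ) ≫ g)).f 0 =
      (singleObjXSelf (ComplexShape.up ℤ) 0 X).hom ≫ u ≫ G.map (e ≫ I.map a ≫ g.f 0) := by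
  simp [CochainComplex.singleFunctor, CochainComplex.singleFunctors, singleMapHomologicalComplex_inv_app_self,
    single_map_f_self, ha, ← Functor.map_comp]
  rw [← Functor.map_comp_assoc, Iso.inv_hom_id_assoc]

open HomologicalComplex in
theorem aux_f0' {A T : Type (u + 1)} [Category.{u} A] [Category.{u} T] [Abelian A] [Abelian T]
    (R : T ⥤ A) [R.Additive] {X : A} {M : T} (e : X ⟶ R.obj M) {L L' : CochainComplex T ℤ}
    (φ : (CochainComplex.singleFunctor T 0).obj M ⟶ L) (w : L ⟶ L') (a : M ⟶ L.X 0)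
    (ha : φ.f 0 = (singleObjXSelf (ComplexShape.up ℤ) 0 M).hom ≫ a) :
    (((CochainComplex.singleFunctor A 0).map e ≫
      (singleMapHomologicalComplex R (ComplexShape.up ℤ) 0).inv.app M ≫
      (R.mapHomologicalComplex (ComplexShape.up ℤ)).map φ) ≫ (R.mapHomologicalComplex (ComplexShape.up ℤ)).map w).f 0 =
      (singleObjXSelf (ComplexShape.up ℤ) 0 X).hom ≫ e ≫ R.map a ≫ R.map (w.f 0) := by
  simp [CochainComplex.singleFunctor, CochainComplex.singleFunctors, singleMapHomologicalComplex_inv_app_self,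
    single_map_f_self, ha]

end Aux

variable (Y : K Δ ⥤ TopCat.{u})

/-- Rows of sections. -/
def rowE (W : Opens (base Y)) : WithInitial Δ ⥤ TA Y ⥤ AddCommGrpCat.{u} where
  obj k := restrA Y (op k) ⋙ CohTop.push (tB Y (op k)) ⋙ ev W
  map {k l} g :=
    { app := fun T => ((rowS Y T).map g).hom.app (op W)
      naturality := fun T T' f => congrArg (fun t => t.hom.app (op W)) (rowS_map_nat f g) }
  map_id k := NatTrans.ext (funext fun T => congrArg (fun t => t.hom.app (op W)) ((rowS Y T).map_id k))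
  map_comp g g' := NatTrans.ext (funext fun T => congrArg (fun t => t.hom.app (op W)) ((rowS Y T).map_comp g g'))

instance additive_rowE (W : Opens (base Y)) (k : WithInitial Δ) : ((rowE Y W).obj k).Additive where
  map_add := rfl

/-- The cosimplicial complex of sections. -/
def cosimp (T : CochainComplex (TA Y) ℤ) (W : Opens (base Y)) :
    WithInitial Δ ⥤ CochainComplex AddCommGrpCat.{u} ℤ where
  obj k := (((rowE Y W).obj k).mapHomologicalComplex (ComplexShape.up ℤ)).obj T
  map g := (NatTrans.mapHomologicalComplex ((rowE Y W).map g) (ComplexShape.up ℤ)).app T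
  map_id k := HomologicalComplex.hom_ext _ _ fun q => congrArg (fun t => t.app (T.X q)) ((rowE Y W).map_id k)
  map_comp g g' := HomologicalComplex.hom_ext _ _ fun q => congrArg (fun t => t.app (T.X q)) ((rowE Y W).map_comp g g')

/-- Functoriality in the complex. -/
def cosimpMap {T T' : CochainComplex (TA Y) ℤ} (f : T ⟶ T') (W : Opens (base Y)) :
    cosimp Y T W ⟶ cosimp Y T' W where
  app k := (((rowE Y W).obj k).mapHomologicalComplex (ComplexShape.up ℤ)).map f
  naturality k l g := ((NatTrans.mapHomologicalComplex ((rowE Y W).map g) (ComplexShape.up ℤ)).naturality f).symm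

/-- Injective resolutions have exact totalisations of sections. -/
theorem totExact_ranS (J : CochainComplex (P₀ Y) ℤ) [J.IsStrictlyGE 0] (hJ : ∀ q, Injective (J.X q))
    (W : Opens (base Y)) :
    TotExact (altCx (cosimp Y (((OpensRestrict.ranS Y).mapHomologicalComplex (ComplexShape.up ℤ)).obj J) W)) := by
  refine totExact_of_rows _ (fun q x hx => eq_zero_of_altD Y W (J.X q).obj x hx) (fun q m x hx => ?_)
    (fun k q hq x => ?_)
  · haveI := hJ q
    haveI := injective_obj (J.X q)
    exact exists_altD_eq Y W (J.X q).obj m x hx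
  · exact (AddCommGrpCat.subsingleton_of_isZero (((rowE Y W).obj k).map_isZero
      ((OpensRestrict.ranS Y).map_isZero (CochainComplex.isZero_of_isStrictlyGE J 0 q hq)))).elim _ _

theorem kap_of_iso {F F' : CohTop.Ab (base Y)} (e : F ≅ F') {J : CochainComplex (P₀ Y) ℤ}
    (ι₀ : (CochainComplex.singleFunctor (P₀ Y) 0).obj ((θP Y).obj F') ⟶ J) :
    kap Y F ((CochainComplex.singleFunctor (P₀ Y) 0).map ((θP Y).map e.hom) ≫ ι₀) =
      (CochainComplex.singleFunctor (CohTop.Ab (base Y)) 0).map e.hom ≫ kap Y F' ι₀ := by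
  have hn := (HomologicalComplex.singleMapHomologicalComplex (θS Y) (ComplexShape.up ℤ) 0).inv.naturality
    ((θP Y).map e.hom)
  have hu := congrArg (CochainComplex.singleFunctor (CohTop.Ab (base Y)) 0).map ((θAdj Y).unit.naturality e.hom)
  rw [Functor.map_comp, Functor.map_comp] at hu
  rw [kap, kap, Functor.map_comp]
  refine (congrArg (_ ≫ ·) (Category.assoc _ _ _).symm).trans ?_
  refine (congrArg (fun t => _ ≫ t ≫ _) hn.symm).trans ?_
  simp only [Category.assoc]
  exact (Category.assoc _ _ _).symm.trans ((congrArg (· ≫ _) hu.symm).trans (Category.assoc _ _ _))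

variable {S : TopCat.{u}} (b : base Y ⟶ S) (M : Sys S)

/-- The resolution of the inverse image. -/
def augP : (CochainComplex.singleFunctor (P₀ Y) 0).obj ((θP Y).obj (F₀ Y b M)) ⟶ JP Y b M :=
  (CochainComplex.singleFunctor (P₀ Y) 0).map (eps Y b M) ≫
    (HomologicalComplex.singleMapHomologicalComplex (inclP Y) (ComplexShape.up ℤ) 0).inv.app (tot Y b M) ≫
    ((inclP Y).mapHomologicalComplex (ComplexShape.up ℤ)).map (augJ Y b M)

theorem quasiIso_augP (hM : M.IsCart) : QuasiIso (augP Y b M) := by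
  haveI := isIso_eps Y b M hM
  haveI := quasiIso_augJ Y b M
  exact quasiIso_comp _ _

/-- The complexes of levels. -/
abbrev LJ (k : K Δ) : CochainComplex (CohTop.Ab (Y.obj k)) ℤ :=
  ((restrA Y k).mapHomologicalComplex (ComplexShape.up ℤ)).obj (JG Y b M)

instance isStrictlyGE_LJ (k : K Δ) : (LJ Y b M k).IsStrictlyGE 0 := by
  rw [CochainComplex.isStrictlyGE_iff]
  intro q hq
  obtain ⟨j, rfl⟩ := Int.eq_negSucc_of_lt_zero hq
  exact (restrA Y k).map_isZero (isZero_JX Y b M j)

/-- The augmentation of the base level. -/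
def augB : (CochainComplex.singleFunctor (CohTop.Ab (base Y)) 0).obj (F₀ Y b M) ⟶ LJ Y b M (FibDesc.bot Δ) :=
  (CochainComplex.singleFunctor (CohTop.Ab (base Y)) 0).map (restrTotIso Y b M (FibDesc.bot Δ)).inv ≫
    (HomologicalComplex.singleMapHomologicalComplex (restrA Y (FibDesc.bot Δ)) (ComplexShape.up ℤ) 0).inv.app (tot Y b M) ≫
    ((restrA Y (FibDesc.bot Δ)).mapHomologicalComplex (ComplexShape.up ℤ)).map (augJ Y b M)

theorem quasiIso_augB : QuasiIso (augB Y b M) := by
  let k : K Δ := FibDesc.bot Δ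
  let p := pk Y b k
  have hf : (HomologicalComplex.singleObjXSelf (ComplexShape.up ℤ) 0 (F₀ Y b M)).inv ≫ (augB Y b M).f 0 =
      Godement.toGod.app (M.obj p) ≫ (restrTotIso Y b (G M 0) k).inv := by
    refine Eq.trans ?_ ((Iso.eq_comp_inv _).2 ((Category.assoc _ _ _).trans ((congrArg
      ((restrTotIso Y b M k).inv ≫ ·) (totMap_restr Y b (toGodHom M) k)).trans (Iso.inv_hom_id_assoc _ _))))
    simp [augB, augJ, HomologicalComplex.singleMapHomologicalComplex_inv_app_self, CochainComplex.singleFunctor,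
      CochainComplex.singleFunctors, ← Functor.map_comp, HomologicalComplex.single_map_f_self]
    rfl
  have hz : IsZero ((LJ Y b M k).X (-1)) := (restrA Y k).map_isZero (isZero_JX Y b M 0)
  have hd : ∀ q : ℕ, (LJ Y b M k).d (Int.ofNat q) (Int.ofNat q + 1) ≫ (restrTotIso Y b (G M (q + 1)) k).hom =
      (restrTotIso Y b (G M q) k).hom ≫ (dG M q).app p := fun q => by
    show (restrA Y k).map ((JG Y b M).d (Int.ofNat q) (Int.ofNat q + 1)) ≫ _ = _
    rw [JG_d]
    exact totMap_restr Y b (dG M q) k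
  have hd' : ∀ q : ℕ, (restrTotIso Y b (G M q) k).inv ≫ (LJ Y b M k).d (Int.ofNat q) (Int.ofNat q + 1) =
      (dG M q).app p ≫ (restrTotIso Y b (G M (q + 1)) k).inv := fun q =>
    (Iso.inv_comp_eq _).2 (((Iso.eq_comp_inv _).2 (hd q)).trans (Category.assoc _ _ _))
  refine ⟨fun i => ?_⟩
  by_cases hi : i = 0
  · subst hi
    rw [quasiIsoAt_iff' (augB Y b M) (-1) 0 1 (by simp) (by simp)]
    have z₀ : IsZero (((CochainComplex.singleFunctor (CohTop.Ab (base Y)) 0).obj (F₀ Y b M)).X (-1)) :=
      HomologicalComplex.isZero_single_obj_X _ _ _ _ (by simp)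
    have z₁ : IsZero (((CochainComplex.singleFunctor (CohTop.Ab (base Y)) 0).obj (F₀ Y b M)).X 1) :=
      HomologicalComplex.isZero_single_obj_X _ _ _ _ (by simp)
    refine (ShortComplex.quasiIso_iff_of_zeros
      ((HomologicalComplex.shortComplexFunctor' _ (ComplexShape.up ℤ) (-1) 0 1).map (augB Y b M))
      (z₀.eq_of_src _ _) (z₁.eq_of_tgt _ _) (hz.eq_of_src _ _)).2 ⟨?_, ?_⟩
    · refine ShortComplex.exact_of_iso ?_ (exact_toGod M p)
      refine ShortComplex.isoMk (HomologicalComplex.singleObjXSelf (ComplexShape.up ℤ) 0 _).symm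
        (restrTotIso Y b (G M 0) k).symm (restrTotIso Y b (G M 1) k).symm hf ?_
      exact hd' 0
    · haveI : Mono ((HomologicalComplex.singleObjXSelf (ComplexShape.up ℤ) 0 (F₀ Y b M)).inv ≫ (augB Y b M).f 0) := by
        rw [hf]
        haveI := Godement.mono_toGod (M.obj p)
        infer_instance
      show Mono ((augB Y b M).f 0)
      rw [← Iso.hom_inv_id_assoc (HomologicalComplex.singleObjXSelf (ComplexShape.up ℤ) 0 (F₀ Y b M)) ((augB Y b M).f 0)]
      infer_instance
  · rw [quasiIsoAt_iff_exactAt _ _ (HomologicalComplex.exactAt_single_obj _ _ _ _ hi)]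
    rcases Int.lt_or_le i 0 with h | h
    · obtain ⟨j, rfl⟩ := Int.eq_negSucc_of_lt_zero h
      exact ShortComplex.exact_of_isZero_X₂ _ ((restrA Y k).map_isZero (isZero_JX Y b M j))
    · obtain ⟨q, rfl⟩ : ∃ q : ℕ, i = Int.ofNat (q + 1) := ⟨(i - 1).toNat, by simp; omega⟩
      rw [HomologicalComplex.exactAt_iff' _ (Int.ofNat q) (Int.ofNat (q + 1)) (Int.ofNat (q + 1) + 1)
        (by simp) (by simp)]
      refine ShortComplex.exact_of_iso ?_ (exact_dG M p q)
      exact ShortComplex.isoMk (restrTotIso Y b (G M q) k).symm (restrTotIso Y b (G M (q + 1)) k).symm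
        (restrTotIso Y b (G M (q + 1 + 1)) k).symm (hd' q) (hd' (q + 1))

variable {J : CochainComplex (P₀ Y) ℤ} (g : JP Y b M ⟶ J)

/-- The comparison on the augmented total site. -/
abbrev wJ : JG Y b M ⟶ ((OpensRestrict.ranS Y).mapHomologicalComplex (ComplexShape.up ℤ)).obj J :=
  DerivedFF.adjunct (adjI Y) g

/-- The comparison on the base. -/
abbrev wB : LJ Y b M (FibDesc.bot Δ) ⟶ ((θS Y).mapHomologicalComplex (ComplexShape.up ℤ)).obj J :=
  ((restrA Y (FibDesc.bot Δ)).mapHomologicalComplex (ComplexShape.up ℤ)).map (wJ Y b M g)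

theorem kap_augP : kap Y (F₀ Y b M) (augP Y b M ≫ g) = augB Y b M ≫ wB Y b M g := by
  let Sg := CochainComplex.singleFunctor (CohTop.Ab (base Y)) 0
  let k : K Δ := FibDesc.bot Δ
  let a := totMap Y b (toGodHom M)
  let Rk := restrA Y k
  refine HomologicalComplex.from_single_hom_ext ?_
  have h4 : (θAdj Y).unit.app (F₀ Y b M) ≫ (θS Y).map (eps Y b M) =
      (restrTotIso Y b M k).inv ≫ Rk.map ((adjI Y).unit.app (tot Y b M)) :=
    ((θAdj Y).homEquiv_unit _ _ _).symm.trans (Equiv.apply_symm_apply _ _)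
  have h5 : (adjI Y).unit.app (tot Y b M) ≫ (OpensRestrict.ranS Y).map ((inclP Y).map a) =
      a ≫ (adjI Y).unit.app (tot Y b (G M 0)) := ((adjI Y).unit.naturality a).symm
  have e1 : (kap Y (F₀ Y b M) (augP Y b M ≫ g)).f 0 =
      (HomologicalComplex.singleObjXSelf (ComplexShape.up ℤ) 0 (F₀ Y b M)).hom ≫
        (θAdj Y).unit.app (F₀ Y b M) ≫ (θS Y).map (eps Y b M ≫ (inclP Y).map a ≫ g.f 0) := by
    exact aux_f0 (θS Y) (inclP Y) ((θAdj Y).unit.app (F₀ Y b M)) (eps Y b M) (augJ Y b M) g a rfl
  have e2 : (augB Y b M ≫ wB Y b M g).f 0 =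
      (HomologicalComplex.singleObjXSelf (ComplexShape.up ℤ) 0 (F₀ Y b M)).hom ≫
        (restrTotIso Y b M k).inv ≫ Rk.map a ≫
          Rk.map ((adjI Y).unit.app (tot Y b (G M 0)) ≫ (OpensRestrict.ranS Y).map (g.f 0)) :=
    aux_f0' Rk (restrTotIso Y b M k).inv (augJ Y b M) (wJ Y b M g) a rfl
  rw [e1, e2]
  refine congrArg ((HomologicalComplex.singleObjXSelf (ComplexShape.up ℤ) 0 (F₀ Y b M)).hom ≫ ·) ?_
  show (θAdj Y).unit.app _ ≫ Rk.map ((OpensRestrict.ranS Y).map _) = _
  refine (congrArg (_ ≫ ·) ((congrArg Rk.map (Functor.map_comp _ _ _)).trans (Rk.map_comp _ _))).trans ?_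
  refine (Category.assoc _ _ _).symm.trans ((congrArg (· ≫ _) h4).trans ?_)
  refine (Category.assoc _ _ _).trans (congrArg ((restrTotIso Y b M k).inv ≫ ·) ?_)
  refine (Rk.map_comp _ _).symm.trans (Eq.trans (congrArg Rk.map ?_) (Rk.map_comp _ _))
  rw [Functor.map_comp, ← Category.assoc, h5, Category.assoc]

theorem colExact_lv [J.IsStrictlyGE 0] (hJ : ∀ q, Injective (J.X q)) [QuasiIso g] (W : Opens (base Y)) (p : ℤ)
    (hp : 0 ≤ p) :
    ColExact ((altMap (cosimpMap Y (wJ Y b M g) W)).f p) := by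
  obtain ⟨m, rfl⟩ := Int.eq_ofNat_of_zero_le hp
  show ColExact ((cosimpMap Y (wJ Y b M g) W).app (ix (m + 1)))
  let k : K Δ := op (ix (m + 1))
  let n : Δᵒᵖ := op (SimplexCategory.mk m)
  obtain ⟨h₁, h₂⟩ := exact_Col Y n
  haveI : PreservesFiniteLimits (Col Y k) := h₁
  haveI : PreservesFiniteColimits (Col Y k) := h₂
  let B := ((Col Y k).mapHomologicalComplex (ComplexShape.up ℤ)).obj J
  let φ : LJ Y b M k ⟶ B := ((restrA Y k).mapHomologicalComplex (ComplexShape.up ℤ)).map (wJ Y b M g)
  haveI : CochainComplex.IsStrictlyGE B 0 := by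
    rw [CochainComplex.isStrictlyGE_iff]
    exact fun q hq => (Col Y k).map_isZero (CochainComplex.isZero_of_isStrictlyGE J 0 q hq)
  haveI : QuasiIso φ := by
    let c : LJ Y b M k ≅ ((Col Y k).mapHomologicalComplex (ComplexShape.up ℤ)).obj (JP Y b M) :=
      HomologicalComplex.Hom.isoOfComponents
        (fun q => @asIso _ _ _ _ ((restrA Y k).map ((adjI Y).unit.app ((JG Y b M).X q)))
          (isIso_restrA_unit Y _ n))
        (fun p q _ => ((restrA Y k).map_comp _ _).symm.trans ((congrArg (restrA Y k).map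
          ((adjI Y).unit.naturality ((JG Y b M).d p q)).symm).trans ((restrA Y k).map_comp _ _)))
    haveI : QuasiIso (((Col Y k).mapHomologicalComplex (ComplexShape.up ℤ)).map g) := inferInstance
    rw [show φ = c.hom ≫ ((Col Y k).mapHomologicalComplex (ComplexShape.up ℤ)).map g from
      HomologicalComplex.hom_ext _ _ fun q => (restrA Y k).map_comp _ _]
    infer_instance
  have h := quasiIso_sections φ (fun q => flasque_JG Y b M q k)
    (fun q => haveI := hJ q; flasque_Col (Y := Y) (J.X q) k) ((Opens.map (tB Y k)).obj W)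
  exact @colExact_of_quasiIso _ _ ((cosimpMap Y (wJ Y b M g) W).app (ix (m + 1))) h

lemma colExact_bot_iff (W : Opens (base Y)) :
    ColExact ((altMap (cosimpMap Y (wJ Y b M g) W)).f (-1)) ↔
      ColExact (((ev ((Opens.map (tB Y (FibDesc.bot Δ))).obj W)).mapHomologicalComplex (ComplexShape.up ℤ)).map
        (wB Y b M g)) := Iff.rfl

lemma map_bot_eq (W : Opens (base Y)) : (Opens.map (tB Y (FibDesc.bot Δ))).obj W = W := by
  rw [show tB Y (FibDesc.bot Δ) = 𝟙 (base Y) from (congrArg Y.map (bot_ext _ _)).trans (Y.map_id _)]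
  rfl

theorem totExact_of_descent (hM : M.IsCart) (hY : FibDesc.IsCohDescentTop Y) (W : Opens (base Y)) :
    TotExact (altCx (cosimp Y (JG Y b M) W)) := by
  obtain ⟨J, hge, hJ, ι₀, hι, hκ⟩ := exists_quasiIso_kap Y hY (F₀ Y b M)
  haveI := hge
  haveI : J.IsKInjective := CochainComplex.isKInjective_of_injective J 0
  haveI := quasiIso_augP Y b M hM
  haveI := hι
  obtain ⟨g, hg⟩ : ∃ g : JP Y b M ⟶ J,
      (HomotopyCategory.quotient _ _).map (augP Y b M ≫ g) = (HomotopyCategory.quotient _ _).map ι₀ := by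
    haveI : IsIso (DerivedCategory.Qh.map ((HomotopyCategory.quotient _ _).map (augP Y b M))) := by
      haveI : IsIso (DerivedCategory.Q.map (augP Y b M)) :=
        (DerivedCategory.isIso_Q_map_iff_quasiIso _ _).2 inferInstance
      exact (NatIso.isIso_map_iff (DerivedCategory.quotientCompQhIso _) (augP Y b M)).2 inferInstance
    obtain ⟨g, hg⟩ := (CochainComplex.IsKInjective.Qh_map_bijective _ J).2
      (inv (DerivedCategory.Qh.map ((HomotopyCategory.quotient _ _).map (augP Y b M))) ≫
        DerivedCategory.Qh.map ((HomotopyCategory.quotient _ _).map ι₀))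
    obtain ⟨g, rfl⟩ := (HomotopyCategory.quotient _ _).map_surjective g
    refine ⟨g, (CochainComplex.IsKInjective.Qh_map_bijective _ J).1 ?_⟩
    rw [Functor.map_comp, Functor.map_comp, hg, IsIso.hom_inv_id_assoc]
  let H := HomotopyCategory.homotopyOfEq _ _ hg
  haveI : QuasiIso (augP Y b M ≫ g) := ⟨fun i => by
    rw [quasiIsoAt_iff_isIso_homologyMap, H.homologyMap_eq]
    infer_instance⟩
  haveI : QuasiIso g := quasiIso_of_comp_left (augP Y b M) g
  haveI : QuasiIso (wB Y b M g) := by
    haveI := quasiIso_augB Y b M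
    haveI : QuasiIso (augB Y b M ≫ wB Y b M g) := ⟨fun i => by
      rw [quasiIsoAt_iff_isIso_homologyMap, ← kap_augP, kap,
        ((((θS Y).mapHomotopy H).compLeft _).compLeft _).homologyMap_eq]
      haveI : QuasiIso (kap Y (F₀ Y b M) ι₀) := hκ
      exact inferInstanceAs (IsIso (HomologicalComplex.homologyMap (kap Y (F₀ Y b M) ι₀) i))⟩
    exact quasiIso_of_comp_left (augB Y b M) (wB Y b M g)
  haveI : CochainComplex.IsStrictlyGE (((θS Y).mapHomologicalComplex (ComplexShape.up ℤ)).obj J) 0 := by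
    rw [CochainComplex.isStrictlyGE_iff]
    exact fun q hq => (θS Y).map_isZero (CochainComplex.isZero_of_isStrictlyGE J 0 q hq)
  refine totExact_source (altMap (cosimpMap Y (wJ Y b M g) W)) ?_ (totExact_ranS Y J hJ W)
  refine coneExact_of_cols _ (fun p q hp => eq_zero_altCx _ p q hp) (fun p q hp => eq_zero_altCx _ p q hp)
    fun p hp => ?_
  rcases Int.lt_or_le p 0 with hp' | hp'
  · obtain rfl : p = -1 := by omega
    rw [colExact_bot_iff]
    exact @colExact_of_quasiIso _ _ _ (quasiIso_sections (wB Y b M g) (fun q => flasque_JG Y b M q _)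
      (fun q => haveI := hJ q; flasque_Col (Y := Y) (J.X q) (FibDesc.bot Δ)) _)
  · exact colExact_lv Y b M g hJ W p hp'

theorem exists_quasiIso_kap_of_totExact (hM : M.IsCart)
    (h : ∀ W : Opens (base Y), TotExact (altCx (cosimp Y (JG Y b M) W))) :
    ∃ (J : CochainComplex (P₀ Y) ℤ) (_ : J.IsStrictlyGE 0) (_ : ∀ q, Injective (J.X q))
      (ι₀ : (CochainComplex.singleFunctor (P₀ Y) 0).obj ((θP Y).obj (F₀ Y b M)) ⟶ J),
      QuasiIso ι₀ ∧ QuasiIso (kap Y (F₀ Y b M) ι₀) := by
  obtain ⟨J, g, hg, hJ, hge⟩ := CochainComplex.Plus.modelCategoryQuillen.exists_quasiIso_injective (JP Y b M) 0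
  haveI := hg
  haveI := hge
  haveI := quasiIso_augP Y b M hM
  refine ⟨J, inferInstance, hJ, augP Y b M ≫ g, quasiIso_comp _ _, ?_⟩
  haveI := quasiIso_augB Y b M
  haveI : QuasiIso (wB Y b M g) := by
    refine quasiIso_of_sections _ fun W => ?_
    rw [← map_bot_eq Y W]
    refine quasiIso_of_colExact _ ?_
    rw [← colExact_bot_iff]
    exact colExact_bot _ (fun p q hp => eq_zero_altCx _ p q hp) (fun p q hp => eq_zero_altCx _ p q hp)
      (coneExact_of_totExact _ (h W) (totExact_ranS Y J hJ W)) (fun p hp => colExact_lv Y b M g hJ W p hp)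
  rw [kap_augP]
  exact quasiIso_comp _ _

end Groth.Agent.H15Site.DescTri
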