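import Groth.Agent.H15Site.DescTri.Rows

/-!
# Sections of Godement resolutions as functors of spaces over a base
-/

set_option autoImplicit false
set_option linter.style.haveILetI false
set_option linter.unusedSectionVars false
set_option backward.isDefEq.respectTransparency false
set_option backward.isDefEq.respectTransparency.types false

universe u v w

open CategoryTheory CategoryTheory.Limits Opposite Pseudofunctor Pseudofunctor.CoGrothendieck
open TopologicalSpace Groth.Agent.H15Site.OpensFib Groth.Agent.H15Site.DescSimp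
open Groth.Agent.H15Site.DoubleSS (Dbl sgn)

noncomputable section

namespace Groth.Agent.H15Site.DescTri

attribute [local instance 10000] SiteInst.hasSheafifySite SiteInst.hasWeakSheafifySite
  SiteInst.hasExtSite SiteInst.enoughInjSite

variable {S : TopCat.{u}}

section Sec

variable (N : Sys S)

/-- Restriction of sections along a map over the base. -/
def sec {X X' : TopCat.{u}} (h : X' ⟶ X) (p : X ⟶ S) (p' : X' ⟶ S) (hh : h ≫ p = p') (U : Opens X)
    (U' : Opens X') (hU : U' ≤ (Opens.map h).obj U) :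
    (N.obj p).obj.obj (op U) ⟶ (N.obj p').obj.obj (op U') :=
  (N.res h p p' hh).hom.app (op U) ≫ (N.obj p').obj.map (homOfLE hU).op

lemma sec_id {X : TopCat.{u}} (p : X ⟶ S) (hh : 𝟙 X ≫ p = p) (U : Opens X) (hU : U ≤ (Opens.map (𝟙 X)).obj U) :
    sec N (𝟙 X) p p hh U U hU = 𝟙 _ := by
  ext x
  show (N.obj p).obj.map (homOfLE hU).op ((N.res (𝟙 X) p p hh).hom.app (op U) x) = x
  rw [N.res_id]
  exact ConcreteCategory.congr_hom ((N.obj p).obj.map_id _) x

lemma sec_comp {X X' X'' : TopCat.{u}} (k : X'' ⟶ X') (h : X' ⟶ X) (p : X ⟶ S) (p' : X' ⟶ S)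
    (p'' : X'' ⟶ S) (hh : h ≫ p = p') (hk : k ≫ p' = p'') (hkh : (k ≫ h) ≫ p = p'') (U : Opens X)
    (U' : Opens X') (U'' : Opens X'') (hU : U' ≤ (Opens.map h).obj U) (hU' : U'' ≤ (Opens.map k).obj U')
    (hU'' : U'' ≤ (Opens.map (k ≫ h)).obj U) :
    sec N (k ≫ h) p p'' hkh U U'' hU'' = sec N h p p' hh U U' hU ≫ sec N k p' p'' hk U' U'' hU' := by
  ext x
  show (N.obj p'').obj.map (homOfLE hU'').op ((N.res (k ≫ h) p p'' hkh).hom.app (op U) x) =
    (N.obj p'').obj.map (homOfLE hU').op ((N.res k p' p'' hk).hom.app (op U')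
      ((N.obj p').obj.map (homOfLE hU).op ((N.res h p p' hh).hom.app (op U) x)))
  rw [N.res_comp k h p p' p'' hh hk hkh]
  refine Eq.trans ?_ (congrArg ((N.obj p'').obj.map (homOfLE hU').op) (ConcreteCategory.congr_hom
    ((N.res k p' p'' hk).hom.naturality (homOfLE hU).op) ((N.res h p p' hh).hom.app (op U) x))).symm
  exact ConcreteCategory.congr_hom ((N.obj p'').obj.map_comp _ _) _

lemma sec_nat {N' : Sys S} (φ : SysHom N N') {X X' : TopCat.{u}} (h : X' ⟶ X) (p : X ⟶ S) (p' : X' ⟶ S)
    (hh : h ≫ p = p') (U : Opens X) (U' : Opens X') (hU : U' ≤ (Opens.map h).obj U) :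
    sec N h p p' hh U U' hU ≫ (φ.app p').hom.app (op U') =
      (φ.app p).hom.app (op U) ≫ sec N' h p p' hh U U' hU := by
  ext x
  refine (ConcreteCategory.congr_hom ((φ.app p').hom.naturality (homOfLE hU).op) _).trans ?_
  exact congrArg ((N'.obj p').obj.map (homOfLE hU).op) (ConcreteCategory.congr_hom
    (congrArg (fun t => t.hom.app (op U)) (φ.naturality h p p' hh)) x)

end Sec

variable (M : Sys S) (V : Opens S)

/-- The open of a space over the base. -/
abbrev pre (T : Over S) : Opens T.left := (Opens.map T.hom).obj V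

lemma pre_le {T T' : Over S} (h : T' ⟶ T) : pre V T' ≤ (Opens.map h.left).obj (pre V T) := fun x hx => by
  show T.hom (h.left x) ∈ V
  have e : T'.hom x ∈ V := hx
  rwa [← Over.w h] at e

/-- The terms of the complex of sections. -/
def ΓX (T : Over S) : ℤ → AddCommGrpCat.{u}
  | Int.ofNat q => ((G M q).obj T.hom).obj.obj (op (pre V T))
  | Int.negSucc _ => (HasZeroObject.zero (C := AddCommGrpCat.{u})).choose

lemma isZero_ΓX (T : Over S) (j : ℕ) : IsZero (ΓX M V T (Int.negSucc j)) :=
  (HasZeroObject.zero (C := AddCommGrpCat.{u})).choose_spec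

/-- The differential. -/
def Γd (T : Over S) : ∀ q : ℤ, ΓX M V T q ⟶ ΓX M V T (q + 1)
  | Int.ofNat q => ((dG M q).app T.hom).hom.app (op (pre V T))
  | Int.negSucc _ => 0

lemma Γd_Γd (T : Over S) : ∀ q : ℤ, Γd M V T q ≫ Γd M V T (q + 1) = 0
  | Int.ofNat q => congrArg (fun t => t.hom.app (op (pre V T))) (dG_dG M T.hom q)
  | Int.negSucc _ => zero_comp

/-- The complex of sections. -/
def ΓC (T : Over S) : CochainComplex AddCommGrpCat.{u} ℤ :=
  CochainComplex.of (ΓX M V T) (Γd M V T) (Γd_Γd M V T)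

lemma ΓC_d (T : Over S) (q : ℤ) : (ΓC M V T).d q (q + 1) = Γd M V T q :=
  CochainComplex.of_d (ΓX M V T) (Γd M V T) q

/-- Restriction. -/
def Γf {T T' : Over S} (h : T' ⟶ T) : ∀ q : ℤ, ΓX M V T q ⟶ ΓX M V T' q
  | Int.ofNat q => sec (G M q) h.left T.hom T'.hom (Over.w h) (pre V T) (pre V T') (pre_le V h)
  | Int.negSucc _ => 0

/-- Restriction of complexes. -/
def Γm {T T' : Over S} (h : T' ⟶ T) : ΓC M V T ⟶ ΓC M V T' where
  f := Γf M V h
  comm' q q' hq := by
    obtain rfl : q + 1 = q' := hq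
    rw [ΓC_d, ΓC_d]
    match q with
    | Int.ofNat q => exact sec_nat (G M q) (dG M q) _ _ _ _ _ _ _
    | Int.negSucc j => exact (isZero_ΓX M V T j).eq_of_src _ _

/-- Sections as a functor of the space over the base. -/
def ΓF : (Over S)ᵒᵖ ⥤ CochainComplex AddCommGrpCat.{u} ℤ where
  obj T := ΓC M V T.unop
  map h := Γm M V h.unop
  map_id T := HomologicalComplex.hom_ext _ _ fun q => by
    match q with
    | Int.ofNat q => exact sec_id (G M q) _ _ _ _
    | Int.negSucc j => exact (isZero_ΓX M V T.unop j).eq_of_src _ _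
  map_comp {T T' T''} h k := HomologicalComplex.hom_ext _ _ fun q => by
    match q with
    | Int.ofNat q => exact sec_comp (G M q) _ _ _ _ _ _ _ _ _ _ _ _ _ _
    | Int.negSucc j => exact (isZero_ΓX M V T.unop j).eq_of_src _ _

section Nerve

variable (Y : K Δ ⥤ TopCat.{u}) (b : base Y ⟶ S)

/-- An augmented space as a diagram over the base. -/
def overY : K Δ ⥤ Over S where
  obj k := Over.mk (pk Y b k)
  map β := Over.homMk (Y.map β) (map_pk Y b β)
  map_id k := Over.OverMorphism.ext (Y.map_id k)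
  map_comp f g := Over.OverMorphism.ext (Y.map_comp f g)

/-- The cosimplicial object of sections of a diagram over the base. -/
abbrev sectZ (C : K Δ ⥤ Over S) : WithInitial Δ ⥤ CochainComplex AddCommGrpCat.{u} ℤ :=
  C.rightOp ⋙ ΓF M V

/-- The components of the comparison. -/
def cosimpApp (k : WithInitial Δ) : ∀ q : ℤ,
    ((cosimp Y (JG Y b M) ((Opens.map b).obj V)).obj k).X q ≅ ΓX M V ((overY Y b).obj (op k)) q
  | Int.ofNat q => (restrTot Y b (G M q) (op k)).app (op (pre V ((overY Y b).obj (op k))))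
  | Int.negSucc j => IsZero.iso (((rowE Y ((Opens.map b).obj V)).obj k).map_isZero (isZero_JX Y b M j))
      (isZero_ΓX M V _ j)

/-- Rows of sections of the Godement complex. -/
def cosimpIso : cosimp Y (JG Y b M) ((Opens.map b).obj V) ≅ sectZ M V (overY Y b) :=
  NatIso.ofComponents (fun k => HomologicalComplex.Hom.isoOfComponents (cosimpApp M V Y b k) (by
      intro q q' hq
      obtain rfl : q + 1 = q' := hq
      show _ ≫ (ΓC M V _).d q (q + 1) = ((rowE Y _).obj k).map ((JG Y b M).d q (q + 1)) ≫ _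
      rw [ΓC_d, JG_d]
      match q with
      | Int.ofNat q => exact (Category.id_comp _).trans (Category.comp_id _).symm
      | Int.negSucc j =>
        exact (((rowE Y ((Opens.map b).obj V)).obj k).map_isZero (isZero_JX Y b M j)).eq_of_src _ _))
    (fun {k l} g => HomologicalComplex.hom_ext _ _ fun q => by
      match q with
      | Int.ofNat q =>
        refine (Category.comp_id _).trans (Eq.trans ?_ (Category.id_comp _).symm)
        rfl
      | Int.negSucc j =>
        exact (((rowE Y ((Opens.map b).obj V)).obj k).map_isZero (isZero_JX Y b M j)).eq_of_src _ _)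

end Nerve

section Iso

theorem totExact_of_iso {D D' : Dbl.{u}} (e : D ≅ D') (h : TotExact D') : TotExact D := by
  intro x hx
  obtain ⟨y, hy⟩ := h (gF e.hom x) (by rw [← gF_dTw, hx, map_zero])
  have hi : ∀ z : Fam D, gF e.inv (gF e.hom z) = z := fun z => funext fun p => funext fun q =>
    ConcreteCategory.congr_hom (congrArg (fun φ : D ⟶ D => (φ.f p).f q) e.hom_inv_id) _
  exact ⟨gF e.inv y, by rw [← gF_dTw, hy, hi]⟩

variable {A : Type w} [Category.{v} A] [Preadditive A] [HasZeroObject A]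
variable {B : Type w} [Category.{v} B] [Preadditive B] [HasZeroObject B]

lemma map_altDiff (Φ : A ⥤ B) [Φ.Additive] (Z : WithInitial Δ ⥤ A) (m : ℕ) :
    Φ.map (altDiff Z m) = altDiff (Z ⋙ Φ) m := by
  rw [altDiff, Functor.map_sum]
  exact Finset.sum_congr rfl fun i _ => Φ.map_zsmul

/-- Components of the comparison with an additive functor. -/
def altMapApp (Φ : A ⥤ B) [Φ.Additive] (Z : WithInitial Δ ⥤ A) :
    ∀ p : ℤ, Φ.obj (altX Z p) ≅ altX (Z ⋙ Φ) p
  | Int.ofNat _ => Iso.refl _
  | Int.negSucc 0 => Iso.refl _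
  | Int.negSucc (j + 1) => IsZero.iso (Φ.map_isZero (isZero_altX Z (Int.negSucc (j + 1)) (by omega)))
      (isZero_altX _ (Int.negSucc (j + 1)) (by omega))

/-- The augmented complex commutes with additive functors. -/
def altMapIso (Φ : A ⥤ B) [Φ.Additive] (Z : WithInitial Δ ⥤ A) :
    (Φ.mapHomologicalComplex (ComplexShape.up ℤ)).obj (altCx Z) ≅ altCx (Z ⋙ Φ) :=
  HomologicalComplex.Hom.isoOfComponents (altMapApp Φ Z) (by
    intro p p' hp
    obtain rfl : p + 1 = p' := hp
    show _ ≫ (altCx (Z ⋙ Φ)).d p (p + 1) = Φ.map ((altCx Z).d p (p + 1)) ≫ _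
    rw [altCx_d, altCx_d]
    match p with
    | Int.ofNat k =>
      exact (Category.id_comp _).trans ((map_altDiff Φ Z (k + 1)).symm.trans (Category.comp_id _).symm)
    | Int.negSucc 0 =>
      exact (Category.id_comp _).trans ((map_altDiff Φ Z 0).symm.trans (Category.comp_id _).symm)
    | Int.negSucc (j + 1) => exact (Φ.map_isZero (isZero_altX Z (Int.negSucc (j + 1)) (by omega))).eq_of_src _ _)

end Iso

theorem totExact_sectZ_iff (Y : K Δ ⥤ TopCat.{u}) (b : base Y ⟶ S) :
    TotExact (altCx (sectZ M V (overY Y b))) ↔ TotExact (altCx (cosimp Y (JG Y b M) ((Opens.map b).obj V))) :=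
  ⟨totExact_of_iso (altFunctor.mapIso (cosimpIso M V Y b)),
    totExact_of_iso (altFunctor.mapIso (cosimpIso M V Y b)).symm⟩

theorem totExact_sectZ_of_descent (Y : K Δ ⥤ TopCat.{u}) (b : base Y ⟶ S) (F : CohTop.Ab S)
    (hY : FibDesc.IsCohDescentTop Y) :
    TotExact (altCx (sectZ (Sys.ofSheaf F) V (overY Y b))) :=
  (totExact_sectZ_iff _ V Y b).2
    (totExact_of_descent Y b (Sys.ofSheaf F) (isCart_ofSheaf F) hY _)

omit M V in
/-- Descent from exactness of sections. -/
theorem isCohDescentTop_of_totExact (Y : K Δ ⥤ TopCat.{u})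
    (h : ∀ (F : CohTop.Ab (base Y)) (W : Opens (base Y)),
      TotExact (altCx (sectZ (Sys.ofSheaf F) W (overY Y (𝟙 (base Y)))))) :
    FibDesc.IsCohDescentTop Y := by
  refine isCohDescentTop_of_kap Y fun F => ?_
  let b := 𝟙 (base Y)
  obtain ⟨J, hge, hJ, ι₀, hι, hκ⟩ := exists_quasiIso_kap_of_totExact Y b (Sys.ofSheaf F)
    (isCart_ofSheaf F) (fun W => (totExact_sectZ_iff _ W Y b).1 (h F W))
  have hp : pk Y b (FibDesc.bot Δ) = 𝟙 (base Y) :=
    (Category.comp_id _).trans ((congrArg Y.map (bot_ext _ _)).trans (Y.map_id _))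
  have hiso : IsIso ((PullCoh.adjP (pk Y b (FibDesc.bot Δ))).unit.app F) := by
    rw [hp]
    haveI : (CohTop.push (𝟙 (base Y))).Faithful := ⟨fun h => h⟩
    haveI : (CohTop.push (𝟙 (base Y))).Full := ⟨fun h => ⟨h, rfl⟩⟩
    let a := PullCoh.adjP (𝟙 (base Y))
    have ht := a.right_triangle_components F
    haveI : IsIso (a.counit.app F) := inferInstance
    haveI : IsIso (a.unit.app ((CohTop.push (𝟙 (base Y))).obj F) ≫ (CohTop.push (𝟙 (base Y))).map (a.counit.app F)) := by
      rw [ht]; exact IsIso.id _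
    exact IsIso.of_isIso_comp_right (a.unit.app ((CohTop.push (𝟙 (base Y))).obj F))
      ((CohTop.push (𝟙 (base Y))).map (a.counit.app F))
  obtain ⟨e⟩ : Nonempty (F ≅ F₀ Y b (Sys.ofSheaf F)) := by
    haveI := hiso
    refine ⟨asIso ((PullCoh.adjP (pk Y b (FibDesc.bot Δ))).unit.app F) ≪≫ eqToIso ?_⟩
    show (CohTop.push (pk Y b (FibDesc.bot Δ))).obj _ = _
    have gen : ∀ (p : base Y ⟶ base Y), p = 𝟙 _ → ∀ T : CohTop.Ab (base Y), (CohTop.push p).obj T = T := by
      rintro p rfl T; rfl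
    exact gen _ hp _
  haveI := hge
  haveI := hι
  haveI := hκ
  refine ⟨J, hge, hJ, (CochainComplex.singleFunctor (P₀ Y) 0).map ((θP Y).map e.hom) ≫ ι₀,
    quasiIso_comp _ _, ?_⟩
  rw [kap_of_iso]
  exact quasiIso_comp _ _

/-- Morphisms of augmented spaces compatible over the base give morphisms of diagrams over the base. -/
def overMapIso {Y Y' : K Δ ⥤ TopCat.{u}} (α : Y ≅ Y') (b : base Y ⟶ S) (b' : base Y' ⟶ S)
    (hb : α.hom.app (FibDesc.bot Δ) ≫ b' = b) : overY Y b ≅ overY Y' b' :=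
  NatIso.ofComponents (fun k => Over.isoMk (α.app k) (by
      show α.hom.app k ≫ tB Y' k ≫ b' = tB Y k ≫ b
      rw [← hb, ← Category.assoc, ← α.hom.naturality, Category.assoc]))
    (fun β => Over.OverMorphism.ext (α.hom.naturality β))

omit M V in
theorem isCohDescentTop_of_iso {Y Y' : K Δ ⥤ TopCat.{u}} (α : Y ≅ Y') (h : FibDesc.IsCohDescentTop Y) :
    FibDesc.IsCohDescentTop Y' :=
  isCohDescentTop_of_totExact Y' fun F W =>
    totExact_of_iso (altFunctor.mapIso (Functor.isoWhiskerRight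
      (NatIso.ofComponents (fun k => (((overMapIso α (α.hom.app (FibDesc.bot Δ)) (𝟙 _)
        (Category.comp_id _)).app (op k)).op))
        (fun g => Quiver.Hom.unop_inj ((overMapIso α _ (𝟙 _) (Category.comp_id _)).hom.naturality g.op).symm))
      (ΓF (Sys.ofSheaf F) W)))
      (totExact_sectZ_of_descent W Y (α.hom.app (FibDesc.bot Δ)) F h)

end Groth.Agent.H15Site.DescTri
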