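import Groth.Agent.H15Site.DescTop.ResSS
import Groth.Agent.H15Site.PullCoh

/-!
# Compatible systems of sheaves on the spaces over a base, and their Godement resolutions
-/

set_option autoImplicit false
set_option linter.style.haveILetI false
set_option linter.unusedSectionVars false
set_option backward.isDefEq.respectTransparency false
set_option backward.isDefEq.respectTransparency.types false

universe u

open CategoryTheory CategoryTheory.Limits Opposite TopologicalSpace
open Groth.Agent.H15Site.Godement Groth.Agent.H15Site.DescTop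

noncomputable section

namespace Groth.Agent.H15Site.DescTri

attribute [local instance 10000] SiteInst.hasSheafifySite SiteInst.hasWeakSheafifySite
  SiteInst.hasExtSite SiteInst.enoughInjSite

/-- A compatible system of sheaves. -/
structure Sys (S : TopCat.{u}) where
  obj : ∀ {X : TopCat.{u}}, (X ⟶ S) → CohTop.Ab X
  res : ∀ {X X' : TopCat.{u}} (h : X' ⟶ X) (p : X ⟶ S) (p' : X' ⟶ S), h ≫ p = p' →
    (obj p ⟶ (CohTop.push h).obj (obj p'))
  res_id : ∀ {X : TopCat.{u}} (p : X ⟶ S) (hh : 𝟙 X ≫ p = p), res (𝟙 X) p p hh = 𝟙 (obj p)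
  res_comp : ∀ {X X' X'' : TopCat.{u}} (k : X'' ⟶ X') (h : X' ⟶ X) (p : X ⟶ S) (p' : X' ⟶ S)
    (p'' : X'' ⟶ S) (hh : h ≫ p = p') (hk : k ≫ p' = p'') (hkh : (k ≫ h) ≫ p = p''),
    res (k ≫ h) p p'' hkh = res h p p' hh ≫ (CohTop.push h).map (res k p' p'' hk)

variable {S : TopCat.{u}}

/-- Inverse images of a sheaf. -/
def Sys.ofSheaf (F : CohTop.Ab S) : Sys S where
  obj p := PullCoh.G F p
  res h p p' hh := PullCoh.φ F h p p' hh
  res_id p hh := PullCoh.φ_id F p hh
  res_comp k h p p' p'' hh hk hkh := PullCoh.φ_comp F k h p p' p'' hh hk hkh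

variable (M : Sys S)

/-- The restriction on stalks. -/
def gr {X X' : TopCat.{u}} (h : X' ⟶ X) (p : X ⟶ S) (p' : X' ⟶ S) (hh : h ≫ p = p') (z : X') :
    CohTop.stalk (M.obj p) (h z) ⟶ CohTop.stalk (M.obj p') z :=
  (TopCat.Presheaf.stalkFunctor AddCommGrpCat.{u} (h z)).map (M.res h p p' hh).hom ≫
    TopCat.Presheaf.stalkPushforward AddCommGrpCat.{u} h (M.obj p').obj z

lemma germ_gr {X X' : TopCat.{u}} (h : X' ⟶ X) (p : X ⟶ S) (p' : X' ⟶ S) (hh : h ≫ p = p') (z : X')
    (U : Opens X) (hU : h z ∈ U) (t : (M.obj p).obj.obj (op U)) :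
    (gr M h p p' hh z).hom (TopCat.Presheaf.germ (M.obj p).obj U (h z) hU t) =
      TopCat.Presheaf.germ (M.obj p').obj ((Opens.map h).obj U) z hU ((M.res h p p' hh).hom.app (op U) t) :=
  (congrArg (TopCat.Presheaf.stalkPushforward AddCommGrpCat.{u} h (M.obj p').obj z).hom
    (TopCat.Presheaf.stalkFunctor_map_germ_apply U (h z) hU (M.res h p p' hh).hom t)).trans
    (ConcreteCategory.congr_hom (TopCat.Presheaf.stalkPushforward_germ AddCommGrpCat.{u} h (M.obj p').obj U z hU) _)

lemma gr_id {X : TopCat.{u}} (p : X ⟶ S) (hh : 𝟙 X ≫ p = p) (z : X) : gr M (𝟙 X) p p hh z = 𝟙 _ := by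
  refine TopCat.Presheaf.stalk_hom_ext _ fun U hU => ?_
  ext t
  refine (germ_gr M (𝟙 X) p p hh z U hU t).trans ?_
  rw [M.res_id]
  rfl

lemma gr_comp {X X' X'' : TopCat.{u}} (k : X'' ⟶ X') (h : X' ⟶ X) (p : X ⟶ S) (p' : X' ⟶ S)
    (p'' : X'' ⟶ S) (hh : h ≫ p = p') (hk : k ≫ p' = p'') (hkh : (k ≫ h) ≫ p = p'') (z : X'') :
    gr M (k ≫ h) p p'' hkh z = gr M h p p' hh (k z) ≫ gr M k p' p'' hk z := by
  refine TopCat.Presheaf.stalk_hom_ext _ fun U hU => ?_
  ext t
  refine (germ_gr M (k ≫ h) p p'' hkh z U hU t).trans ?_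
  refine Eq.trans ?_ ((congrArg (gr M k p' p'' hk z).hom (germ_gr M h p p' hh (k z) U hU t)).trans
    (germ_gr M k p' p'' hk z _ hU _)).symm
  exact congrArg _ (ConcreteCategory.congr_hom
    (congrArg (fun φ => φ.hom.app (op U)) (M.res_comp k h p p' p'' hh hk hkh)) t)

/-- The restriction of germ families. -/
def godRes {X X' : TopCat.{u}} (h : X' ⟶ X) (p : X ⟶ S) (p' : X' ⟶ S) (hh : h ≫ p = p') :
    (god (X := X)).obj (M.obj p) ⟶ (CohTop.push h).obj ((god (X := X')).obj (M.obj p')) :=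
  ⟨{ app := fun U => AddCommGrpCat.ofHom
      { toFun := fun s z => (gr M h p p' hh z.1).hom (s ⟨h z.1, z.2⟩)
        map_zero' := funext fun _ => map_zero _
        map_add' := fun _ _ => funext fun _ => map_add _ _ _ }
     naturality := fun _ _ _ => rfl }⟩

/-- The Godement system. -/
def Sys.god : Sys S where
  obj p := (Godement.god).obj (M.obj p)
  res := godRes M
  res_id p hh := by
    refine CategoryTheory.Sheaf.hom_ext ?_
    ext U s
    funext z
    exact ConcreteCategory.congr_hom (gr_id M p hh z.1) _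
  res_comp k h p p' p'' hh hk hkh := by
    refine CategoryTheory.Sheaf.hom_ext ?_
    ext U s
    funext z
    exact ConcreteCategory.congr_hom (gr_comp M k h p p' p'' hh hk hkh z.1) _

/-- Morphisms of systems. -/
structure SysHom (M N : Sys S) where
  app : ∀ {X : TopCat.{u}} (p : X ⟶ S), M.obj p ⟶ N.obj p
  naturality : ∀ {X X' : TopCat.{u}} (h : X' ⟶ X) (p : X ⟶ S) (p' : X' ⟶ S) (hh : h ≫ p = p'),
    M.res h p p' hh ≫ (CohTop.push h).map (app p') = app p ≫ N.res h p p' hh

/-- The germ map. -/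
def toGodHom : SysHom M M.god where
  app p := Godement.toGod.app (M.obj p)
  naturality h p p' hh := by
    refine CategoryTheory.Sheaf.hom_ext ?_
    ext U t
    funext z
    exact (germ_gr M h p p' hh z.1 U.unop z.2 t).symm

/-- The cokernel of a morphism of systems. -/
def SysHom.coker {M N : Sys S} (φ : SysHom M N) : Sys S where
  obj p := cokernel (φ.app p)
  res h p p' hh := cokernel.desc _ (N.res h p p' hh ≫ (CohTop.push h).map (cokernel.π _)) (by
    rw [← Category.assoc, ← φ.naturality, Category.assoc, ← Functor.map_comp, cokernel.condition]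
    refine (congrArg (M.res h p p' hh ≫ ·) (show (CohTop.push h).map (0 : M.obj p' ⟶ cokernel (φ.app p')) = 0 from rfl)).trans ?_
    exact comp_zero)
  res_id p hh := by
    rw [← cancel_epi (cokernel.π (φ.app p)), cokernel.π_desc, N.res_id]
    exact (Category.id_comp _).trans (Category.comp_id _).symm
  res_comp k h p p' p'' hh hk hkh := by
    rw [← cancel_epi (cokernel.π (φ.app p)), cokernel.π_desc, cokernel.π_desc_assoc,
      N.res_comp k h p p' p'' hh hk hkh, Category.assoc, Category.assoc]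
    refine congrArg (N.res h p p' hh ≫ ·) ?_
    exact ((CohTop.push h).map_comp _ _).symm.trans
      ((congrArg (CohTop.push h).map (cokernel.π_desc (φ.app p')
        (N.res k p' p'' hk ≫ (CohTop.push k).map (cokernel.π (φ.app p''))) _).symm).trans
        ((CohTop.push h).map_comp _ _))

/-- The projection to the cokernel. -/
def SysHom.π {M N : Sys S} (φ : SysHom M N) : SysHom N φ.coker where
  app p := cokernel.π (φ.app p)
  naturality _ _ _ _ := (cokernel.π_desc _ _ _).symm

/-- Composition. -/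
def SysHom.comp {M N P : Sys S} (φ : SysHom M N) (ψ : SysHom N P) : SysHom M P where
  app p := φ.app p ≫ ψ.app p
  naturality h p p' hh := by
    rw [Functor.map_comp, ← Category.assoc, φ.naturality, Category.assoc, ψ.naturality, Category.assoc]

/-- The iterated cokernels. -/
def N : ℕ → Sys S
  | 0 => M
  | n + 1 => (toGodHom (N n)).coker

/-- The Godement terms. -/
abbrev G (n : ℕ) : Sys S := (N M n).god

/-- The Godement differential. -/
def dG (n : ℕ) : SysHom (G M n) (G M (n + 1)) :=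
  (toGodHom (N M n)).π.comp (toGodHom (N M (n + 1)))

lemma dG_app (n : ℕ) {X : TopCat.{u}} (p : X ⟶ S) :
    (dG M n).app p = cokernel.π (Godement.toGod.app ((N M n).obj p)) ≫ Godement.toGod.app ((N M (n + 1)).obj p) :=
  rfl

theorem toGod_dG {X : TopCat.{u}} (p : X ⟶ S) (n : ℕ) :
    Godement.toGod.app ((N M n).obj p) ≫ (dG M n).app p = 0 := by
  rw [dG_app, ← Category.assoc, cokernel.condition, zero_comp]

theorem dG_dG {X : TopCat.{u}} (p : X ⟶ S) (n : ℕ) :
    (dG M n).app p ≫ (dG M (n + 1)).app p = 0 := by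
  rw [dG_app M n, Category.assoc, toGod_dG, comp_zero]

/-- The kernel of the differential. -/
theorem exact_dG {X : TopCat.{u}} (p : X ⟶ S) (n : ℕ) :
    (ShortComplex.mk ((dG M n).app p) ((dG M (n + 1)).app p) (dG_dG M p n)).Exact := by
  let a := Godement.toGod.app ((N M (n + 1)).obj p)
  let S₂ := ShortComplex.mk a ((dG M (n + 1)).app p) (toGod_dG M p (n + 1))
  have h₁ : S₂.Exact := by
    let T := ShortComplex.mk a (cokernel.π a) (cokernel.condition _)
    let φ : T ⟶ S₂ :=
      { τ₁ := 𝟙 _, τ₂ := 𝟙 _, τ₃ := Godement.toGod.app ((N M (n + 1 + 1)).obj p)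
        comm₁₂ := (Category.id_comp _).trans (Category.comp_id _).symm
        comm₂₃ := Category.id_comp _ }
    haveI : Epi φ.τ₁ := inferInstanceAs (Epi (𝟙 _))
    haveI : IsIso φ.τ₂ := inferInstanceAs (IsIso (𝟙 _))
    haveI : Mono φ.τ₃ := mono_toGod _
    exact (ShortComplex.exact_iff_of_epi_of_isIso_of_mono φ).1 (ShortComplex.exact_cokernel a)
  let ψ : ShortComplex.mk ((dG M n).app p) ((dG M (n + 1)).app p) (dG_dG M p n) ⟶ S₂ :=
    { τ₁ := cokernel.π (Godement.toGod.app ((N M n).obj p)), τ₂ := 𝟙 _, τ₃ := 𝟙 _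
      comm₁₂ := (Category.comp_id _).symm
      comm₂₃ := (Category.id_comp _).trans (Category.comp_id _).symm }
  haveI : Epi ψ.τ₁ := inferInstanceAs (Epi (cokernel.π _))
  haveI : IsIso ψ.τ₂ := inferInstanceAs (IsIso (𝟙 _))
  haveI : Mono ψ.τ₃ := inferInstanceAs (Mono (𝟙 _))
  exact (ShortComplex.exact_iff_of_epi_of_isIso_of_mono ψ).2 h₁

/-- The augmentation is a kernel. -/
theorem exact_toGod {X : TopCat.{u}} (p : X ⟶ S) :
    (ShortComplex.mk (Godement.toGod.app (M.obj p)) ((dG M 0).app p) (toGod_dG M p 0)).Exact := by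
  let a := Godement.toGod.app (M.obj p)
  let T := ShortComplex.mk a (cokernel.π a) (cokernel.condition _)
  let φ : T ⟶ ShortComplex.mk (Godement.toGod.app (M.obj p)) ((dG M 0).app p) (toGod_dG M p 0) :=
    { τ₁ := 𝟙 _, τ₂ := 𝟙 _, τ₃ := Godement.toGod.app ((N M 1).obj p)
      comm₁₂ := (Category.id_comp _).trans (Category.comp_id _).symm
      comm₂₃ := Category.id_comp _ }
  haveI : Epi φ.τ₁ := inferInstanceAs (Epi (𝟙 _))
  haveI : IsIso φ.τ₂ := inferInstanceAs (IsIso (𝟙 _))
  haveI : Mono φ.τ₃ := mono_toGod _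
  exact (ShortComplex.exact_iff_of_epi_of_isIso_of_mono φ).1 (ShortComplex.exact_cokernel a)

theorem flasque_G (n : ℕ) {X : TopCat.{u}} (p : X ⟶ S) : H10Coh.Flasque ((G M n).obj p) :=
  flasque_god _

/-- Systems whose restrictions are inverse images. -/
def Sys.IsCart : Prop := ∀ {X X' : TopCat.{u}} (h : X' ⟶ X) (p : X ⟶ S) (p' : X' ⟶ S) (hh : h ≫ p = p'),
  IsIso (((PullCoh.adjP h).homEquiv (M.obj p) (M.obj p')).symm (M.res h p p' hh))

theorem isCart_ofSheaf (F : CohTop.Ab S) : (Sys.ofSheaf F).IsCart := by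
  intro X X' h p p' hh
  subst hh
  let a := PullCoh.adjP p
  let b := PullCoh.adjP h
  let c := PullCoh.adjP (h ≫ p)
  suffices e : (b.homEquiv _ _).symm (PullCoh.φ F h p (h ≫ p) rfl) = ((a.comp b).leftAdjointUniq c).hom.app F by
    show IsIso ((b.homEquiv _ _).symm (PullCoh.φ F h p (h ≫ p) rfl))
    rw [e]
    infer_instance
  refine ((a.comp b).homEquiv F _).injective ?_
  rw [Adjunction.homEquiv_leftAdjointUniq_hom_app, Adjunction.comp_homEquiv]
  show a.homEquiv _ _ (b.homEquiv _ _ ((b.homEquiv _ _).symm _)) = _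
  rw [Equiv.apply_symm_apply, PullCoh.φ, Equiv.apply_symm_apply]
  exact Category.comp_id _

end Groth.Agent.H15Site.DescTri
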