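import Groth.Agent.H15Site.DoubleSS.Band
import Mathlib.Algebra.Homology.HomologicalBicomplex

/-!
# Exactness of total complexes of triple complexes

For a triple complex `T` in the region `m, n ≥ -1`, if all the double complexes `T(m,·,·)` and the double
complexes `T(·,n,·)`, `n ≥ 0`, have exact totalisations (formed with products), so has `T(·,-1,·)`.
-/

set_option autoImplicit false
set_option linter.style.haveILetI false
set_option linter.unusedSectionVars false
set_option backward.isDefEq.respectTransparency false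

universe u v

open CategoryTheory CategoryTheory.Limits
open Groth.Agent.H15Site.DoubleSS (Dbl sgn sgn_pred)

namespace Groth.Agent.H15Site.DescTri

section Stair

variable {G : ℤ → Type v} [∀ m, AddCommGroup (G m)] (δ : ∀ m, G m →+ G m) (f : ∀ m m', G m →+ G m')
  (hff : ∀ m x, f (m - 1) m (f (m - 1 - 1) (m - 1) x) = 0)
  (hfδ : ∀ m x, f (m - 1) m (δ (m - 1) x) + δ m (f (m - 1) m x) = 0)
  (hex : ∀ m, 0 ≤ m → ∀ x, δ m x = 0 → ∃ y, δ m y = x)

include hff hfδ hex in
/-- A cycle of the first column extends to a cycle of the staircase. -/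
theorem exists_cycle (hz : ∀ m, m < -1 → ∀ x : G m, x = 0) (z : G (-1)) (hz₀ : δ (-1) z = 0) :
    ∃ Z : ∀ m, G m, Z (-1) = z ∧ ∀ m, f (m - 1) m (Z (m - 1)) + δ m (Z m) = 0 := by
  classical
  have step : ∀ (m : ℤ), 0 ≤ m → ∀ (a : G (m - 1 - 1)) (b : G (m - 1)),
      f (m - 1 - 1) (m - 1) a + δ (m - 1) b = 0 → ∃ c : G m, f (m - 1) m b + δ m c = 0 := by
    intro m hm a b hab
    have h1 : δ m (f (m - 1) m b) = 0 := by
      have h2 := congrArg (f (m - 1) m) hab
      rw [map_add, hff, zero_add, map_zero] at h2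
      have h3 := hfδ m b
      rwa [h2, zero_add] at h3
    obtain ⟨c, hc⟩ := hex m hm _ h1
    exact ⟨-c, by rw [map_neg, hc, add_neg_cancel]⟩
  let P : ℕ → Type v := fun k => {ab : G ((k : ℤ) - 1 - 1) × G ((k : ℤ) - 1) //
    f _ _ ab.1 + δ _ ab.2 = 0}
  have hP : ∀ (k : ℕ) (x : P k), ∃ c : G ((k + 1 : ℕ) - 1 : ℤ), ∀ (h : ((k : ℤ) - 1) = ((k + 1 : ℕ) : ℤ) - 1 - 1),
      f _ _ (h ▸ x.1.2) + δ _ c = 0 := by
    intro k x
    have h : ((k : ℤ) - 1) = ((k + 1 : ℕ) : ℤ) - 1 - 1 := by push_cast; ring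
    have e : ((k : ℤ) - 1 - 1) = ((k + 1 : ℕ) : ℤ) - 1 - 1 - 1 := by push_cast; ring
    obtain ⟨c, hc⟩ := step (((k + 1 : ℕ) : ℤ) - 1) (by omega) (e ▸ x.1.1) (h ▸ x.1.2) (by
        have gen : ∀ (p p' : ℤ) (h : p = p') (e : p - 1 = p' - 1) (a : G (p - 1)) (b : G p),
            f (p - 1) p a + δ p b = 0 → f (p' - 1) p' (e ▸ a) + δ p' (h ▸ b) = 0 := by
          rintro p p' rfl e a b hh; exact hh
        exact gen _ _ h _ _ _ x.2)
    exact ⟨c, fun _ => hc⟩
  choose nx hnx using hP
  let start : P 0 := ⟨(0, z), by rw [map_zero, zero_add]; exact hz₀⟩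
  let seq : ∀ k, P k := fun k => Nat.rec start (fun k x => ⟨((show ((k : ℤ) - 1) = ((k + 1 : ℕ) : ℤ) - 1 - 1 by
    push_cast; ring) ▸ x.1.2, nx k x), hnx k x _⟩) k
  let Z : ∀ m, G m := fun m => if h : ((m + 1).toNat : ℤ) - 1 = m then h ▸ (seq (m + 1).toNat).1.2 else 0
  have hZ : ∀ k : ℕ, Z ((k : ℤ) - 1) = (seq k).1.2 := fun k => by
    have gen : ∀ (k' : ℕ) (_ : k' = k) (h : (k' : ℤ) - 1 = (k : ℤ) - 1), h ▸ (seq k').1.2 = (seq k).1.2 := by
      rintro k' rfl h; rfl
    show dite _ _ _ = _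
    rw [dif_pos (by omega)]
    exact gen _ (by omega) _
  refine ⟨Z, ?_, fun m => ?_⟩
  · exact hZ 0
  · rcases lt_trichotomy m (-1) with hm | rfl | hm
    · exact hz m hm _
    · rw [hz (-1 - 1) (by omega) (Z (-1 - 1)), map_zero, zero_add, show Z (-1) = z from hZ 0]
      exact hz₀
    · obtain ⟨k, rfl⟩ : ∃ k : ℕ, m = ((k + 1 : ℕ) : ℤ) - 1 := ⟨m.toNat, by omega⟩
      rw [hZ (k + 1)]
      have e : Z (((k + 1 : ℕ) : ℤ) - 1 - 1) = (seq (k + 1)).1.1 := by
        have gen : ∀ (p : ℤ) (h : (k : ℤ) - 1 = p), Z p = h ▸ (seq k).1.2 := by rintro p rfl; exact hZ k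
        exact gen _ _
      rw [e]
      exact (seq (k + 1)).2

include hff hfδ in
/-- A staircase with exact columns is exact. -/
theorem exists_primitive (hz : ∀ m, m < -1 → ∀ x : G m, x = 0)
    (hex' : ∀ m, ∀ x, δ m x = 0 → ∃ y, δ m y = x) (x : ∀ m, G m)
    (hx : ∀ m, f (m - 1) m (x (m - 1)) + δ m (x m) = 0) :
    ∃ w : ∀ m, G m, ∀ m, f (m - 1) m (w (m - 1)) + δ m (w m) = x m := by
  classical
  have step : ∀ (m : ℤ) (a : G (m - 1 - 1)) (b : G (m - 1)),
      f (m - 1 - 1) (m - 1) a + δ (m - 1) b = x (m - 1) → ∃ c : G m, f (m - 1) m b + δ m c = x m := by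
    intro m a b hab
    have h1 : δ m (x m - f (m - 1) m b) = 0 := by
      have h2 := congrArg (f (m - 1) m) hab
      rw [map_add, hff, zero_add] at h2
      have h3 := hfδ m b
      rw [h2] at h3
      rw [map_sub, eq_neg_of_add_eq_zero_right (hx m), eq_neg_of_add_eq_zero_right h3, sub_self]
    obtain ⟨c, hc⟩ := hex' m _ h1
    exact ⟨c, by rw [hc]; abel⟩
  let P : ℕ → Type v := fun k => {ab : G ((k : ℤ) - 1 - 1) × G ((k : ℤ) - 1) //
    f _ _ ab.1 + δ _ ab.2 = x ((k : ℤ) - 1)}
  have hP : ∀ (k : ℕ) (y : P k), ∃ c : G ((k + 1 : ℕ) - 1 : ℤ), ∀ (h : ((k : ℤ) - 1) = ((k + 1 : ℕ) : ℤ) - 1 - 1),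
      f _ _ (h ▸ y.1.2) + δ _ c = x _ := by
    intro k y
    have h : ((k : ℤ) - 1) = ((k + 1 : ℕ) : ℤ) - 1 - 1 := by push_cast; ring
    have e : ((k : ℤ) - 1 - 1) = ((k + 1 : ℕ) : ℤ) - 1 - 1 - 1 := by push_cast; ring
    obtain ⟨c, hc⟩ := step (((k + 1 : ℕ) : ℤ) - 1) (e ▸ y.1.1) (h ▸ y.1.2) (by
        have gen : ∀ (p p' : ℤ) (h : p = p') (e : p - 1 = p' - 1) (a : G (p - 1)) (b : G p),
            f (p - 1) p a + δ p b = x p → f (p' - 1) p' (e ▸ a) + δ p' (h ▸ b) = x p' := by
          rintro p p' rfl e a b hh; exact hh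
        exact gen _ _ h _ _ _ y.2)
    exact ⟨c, fun _ => hc⟩
  choose nx hnx using hP
  obtain ⟨w₀, hw₀⟩ := hex' (-1) (x (-1)) (by
    have := hx (-1)
    rwa [hz (-1 - 1) (by omega) (x (-1 - 1)), map_zero, zero_add] at this)
  let start : P 0 := ⟨(0, w₀), by rw [map_zero, zero_add]; exact hw₀⟩
  let seq : ∀ k, P k := fun k => Nat.rec start (fun k y => ⟨((show ((k : ℤ) - 1) = ((k + 1 : ℕ) : ℤ) - 1 - 1 by
    push_cast; ring) ▸ y.1.2, nx k y), hnx k y _⟩) k
  let Z : ∀ m, G m := fun m => if h : ((m + 1).toNat : ℤ) - 1 = m then h ▸ (seq (m + 1).toNat).1.2 else 0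
  have hZ : ∀ k : ℕ, Z ((k : ℤ) - 1) = (seq k).1.2 := fun k => by
    have gen : ∀ (k' : ℕ) (_ : k' = k) (h : (k' : ℤ) - 1 = (k : ℤ) - 1), h ▸ (seq k').1.2 = (seq k).1.2 := by
      rintro k' rfl h; rfl
    show dite _ _ _ = _
    rw [dif_pos (by omega)]
    exact gen _ (by omega) _
  refine ⟨Z, fun m => ?_⟩
  rcases lt_trichotomy m (-1) with hm | rfl | hm
  · exact (hz m hm _).trans (hz m hm _).symm
  · rw [hz (-1 - 1) (by omega) (Z (-1 - 1)), map_zero, zero_add, show Z (-1) = w₀ from hZ 0]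
    exact hw₀
  · obtain ⟨k, rfl⟩ : ∃ k : ℕ, m = ((k + 1 : ℕ) : ℤ) - 1 := ⟨m.toNat, by omega⟩
    rw [hZ (k + 1)]
    have e : Z (((k + 1 : ℕ) : ℤ) - 1 - 1) = (seq (k + 1)).1.1 := by
      have gen : ∀ (p : ℤ) (h : (k : ℤ) - 1 = p), Z p = h ▸ (seq k).1.2 := by rintro p rfl; exact hZ k
      exact gen _ _
    rw [e]
    exact (seq (k + 1)).2

end Stair

variable (D : Dbl.{u})

/-- Families of components in all bidegrees. -/
abbrev Fam : Type u := ∀ p q : ℤ, (D.X p).X q

/-- The total differential, with the vertical sign twisted by `c`. -/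
noncomputable def dTw (c : ℤ) : Fam D →+ Fam D where
  toFun x p q := ((D.d (p - 1) p).f q).hom (x (p - 1) q) +
    (sgn p * sgn c) • ((D.X p).d (q - 1) q).hom (x p (q - 1))
  map_zero' := by
    funext p q
    show _ + _ = (0 : ((D.X p).X q : Type u))
    simp
  map_add' x y := by
    funext p q
    simp only [Pi.add_apply, map_add, smul_add]
    abel

/-- Exactness of the totalisation. -/
def TotExact : Prop := ∀ x, dTw D 0 x = 0 → ∃ y, dTw D 0 y = x

lemma sgn_mul_self (p : ℤ) : sgn p * sgn p = 1 := Int.units_coe_mul_self _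

lemma sgn_zero : sgn 0 = 1 := by simp [sgn]

lemma dTw_twist (c : ℤ) (x : Fam D) (p q : ℤ) :
    dTw D 0 (fun p q => sgn (c * q) • x p q) p q = sgn (c * q) • dTw D c x p q := by
  show ((D.d (p - 1) p).f q).hom (sgn (c * q) • x (p - 1) q) +
      (sgn p * sgn 0) • ((D.X p).d (q - 1) q).hom (sgn (c * (q - 1)) • x p (q - 1)) =
    sgn (c * q) • (((D.d (p - 1) p).f q).hom (x (p - 1) q) +
      (sgn p * sgn c) • ((D.X p).d (q - 1) q).hom (x p (q - 1)))
  have e : sgn (c * (q - 1)) = sgn (c * q) * sgn c := by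
    rw [mul_sub, mul_one]
    simp only [sgn, Int.negOnePow_sub, Units.val_mul]
  rw [map_zsmul, map_zsmul, smul_smul, smul_add, smul_smul, e, sgn_zero, mul_one]
  congr 2
  ring

variable {D}

theorem TotExact.twist (h : TotExact D) (c : ℤ) (x : Fam D) (hx : dTw D c x = 0) :
    ∃ y, dTw D c y = x := by
  obtain ⟨y, hy⟩ := h (fun p q => sgn (c * q) • x p q) (funext fun p => funext fun q => by
    rw [dTw_twist, hx]
    exact smul_zero _)
  refine ⟨fun p q => sgn (c * q) • y p q, funext fun p => funext fun q => ?_⟩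
  have h2 := (dTw_twist D c (fun p q => sgn (c * q) • y p q) p q).symm
  rw [show (fun p q => sgn (c * q) • (fun p q => sgn (c * q) • y p q) p q) = y from
    funext fun p => funext fun q => by
      show sgn (c * q) • sgn (c * q) • y p q = y p q
      rw [smul_smul, sgn_mul_self, one_smul], hy] at h2
  have h3 := congrArg (sgn (c * q) • ·) h2
  simp only [smul_smul, sgn_mul_self, one_smul] at h3
  exact h3

theorem totExact_of_subsingleton (h : ∀ p q (x : (D.X p).X q), x = 0) : TotExact D :=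
  fun x _ => ⟨0, funext fun p => funext fun q => (h p q _).trans (h p q _).symm⟩

section Tri

variable (T : CochainComplex Dbl.{u} ℤ)

/-- The double complexes in the first and last directions. -/
noncomputable abbrev U (n : ℤ) : Dbl.{u} := (HomologicalComplex₂.flip T).X n

variable (hm : ∀ m n q, m < -1 → ∀ x : ((T.X m).X n).X q, x = 0)
  (hn : ∀ m n q, n < -1 → ∀ x : ((T.X m).X n).X q, x = 0)

lemma sq_m (m n q : ℤ) (x : ((T.X (m - 1 - 1)).X n).X q) :
    (((T.d (m - 1) m).f n).f q).hom ((((T.d (m - 1 - 1) (m - 1)).f n).f q).hom x) = 0 :=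
  ConcreteCategory.congr_hom (congrArg (fun φ : T.X (m - 1 - 1) ⟶ T.X m => (φ.f n).f q)
    (T.d_comp_d (m - 1 - 1) (m - 1) m)) x

lemma comm_mn (m m' n n' q : ℤ) (x : ((T.X m).X n).X q) :
    (((T.X m').d n n').f q).hom ((((T.d m m').f n).f q).hom x) =
      (((T.d m m').f n').f q).hom ((((T.X m).d n n').f q).hom x) :=
  ConcreteCategory.congr_hom (congrArg (fun φ : (T.X m).X n ⟶ (T.X m').X n' => φ.f q)
    ((T.d m m').comm n n')) x

lemma comm_mq (m m' n q q' : ℤ) (x : ((T.X m).X n).X q) :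
    (((T.X m').X n).d q q').hom ((((T.d m m').f n).f q).hom x) =
      (((T.d m m').f n).f q').hom ((((T.X m).X n).d q q').hom x) :=
  ConcreteCategory.congr_hom (((T.d m m').f n).comm q q') x

lemma comm_nq (m n n' q q' : ℤ) (x : ((T.X m).X n).X q) :
    (((T.X m).X n').d q q').hom ((((T.X m).d n n').f q).hom x) =
      (((T.X m).d n n').f q').hom ((((T.X m).X n).d q q').hom x) :=
  ConcreteCategory.congr_hom (((T.X m).d n n').comm q q') x

/-- The differential of `U n` twisted. -/
noncomputable abbrev δU (n : ℤ) : Fam (U T n) →+ Fam (U T n) := dTw (U T n) n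

/-- The middle differential, signed. -/
noncomputable def fU (n n' : ℤ) : Fam (U T n) →+ Fam (U T n') where
  toFun x m q := sgn m • (((T.X m).d n n').f q).hom (x m q)
  map_zero' := funext fun m => funext fun q => by
    show sgn m • (((T.X m).d n n').f q).hom 0 = (0 : (((T.X m).X n').X q : Type u))
    rw [map_zero, smul_zero]
  map_add' x y := funext fun m => funext fun q => by
    show sgn m • (((T.X m).d n n').f q).hom (x m q + y m q) = sgn m • _ + sgn m • _
    rw [map_add, smul_add]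

/-- The differential of `T m`, signed. -/
noncomputable def δT (m : ℤ) : Fam (T.X m) →+ Fam (T.X m) := sgn m • dTw (T.X m) 0

/-- The first differential. -/
noncomputable def fT (m m' : ℤ) : Fam (T.X m) →+ Fam (T.X m') where
  toFun x n q := (((T.d m m').f n).f q).hom (x n q)
  map_zero' := funext fun n => funext fun q => map_zero _
  map_add' x y := funext fun n => funext fun q => map_add _ _ _

include hm hn in
/-- **Exactness in the augmentation column.** -/
theorem totExact_U (hT : ∀ m, TotExact (T.X m)) (hU : ∀ n, 0 ≤ n → TotExact (U T n)) :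
    TotExact (U T (-1)) := by
  intro z hz
  let z' : Fam (U T (-1)) := fun m q => sgn (-1 * q) • z m q
  have hz' : δU T (-1) z' = 0 := by
    funext m q
    have h2 := dTw_twist (U T (-1)) (-1) z' m q
    rw [show (fun m q => sgn (-1 * q) • z' m q) = z from funext fun m => funext fun q => by
      show sgn (-1 * q) • sgn (-1 * q) • z m q = z m q
      rw [smul_smul, sgn_mul_self, one_smul], hz] at h2
    have h3 := congrArg (sgn (-1 * q) • ·) h2.symm
    simp only [smul_smul, sgn_mul_self, one_smul] at h3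
    exact h3.trans (smul_zero _)
  obtain ⟨Z, hZ₀, hZ⟩ := exists_cycle (G := fun n => Fam (U T n)) (δU T) (fU T) (fun n x => by
      funext m q
      show sgn m • (((T.X m).d (n - 1) n).f q).hom (sgn m • (((T.X m).d (n - 1 - 1) (n - 1)).f q).hom (x m q)) = 0
      rw [map_zsmul]
      rw [show (((T.X m).d (n - 1) n).f q).hom ((((T.X m).d (n - 1 - 1) (n - 1)).f q).hom (x m q)) = 0 from
        ConcreteCategory.congr_hom (congrArg (fun φ : (T.X m).X (n - 1 - 1) ⟶ (T.X m).X n => φ.f q)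
          ((T.X m).d_comp_d (n - 1 - 1) (n - 1) n)) _, smul_zero, smul_zero])
    (fun n x => by
      funext m q
      show sgn m • (((T.X m).d (n - 1) n).f q).hom
          ((((T.d (m - 1) m).f (n - 1)).f q).hom (x (m - 1) q) +
            (sgn m * sgn (n - 1)) • (((T.X m).X (n - 1)).d (q - 1) q).hom (x m (q - 1))) +
        ((((T.d (m - 1) m).f n).f q).hom (sgn (m - 1) • (((T.X (m - 1)).d (n - 1) n).f q).hom (x (m - 1) q)) +
            (sgn m * sgn n) • (((T.X m).X n).d (q - 1) q).hom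
              (sgn m • (((T.X m).d (n - 1) n).f (q - 1)).hom (x m (q - 1)))) = 0
      rw [map_add, map_zsmul, map_zsmul, map_zsmul, comm_mn, comm_nq, sgn_pred, sgn_pred, smul_add]
      simp only [smul_smul, neg_smul, mul_neg]
      module)
    (fun n hn₀ x hx => (hU n hn₀).twist n x hx)
    (fun n hn' x => funext fun m => funext fun q => hn m n q hn' _) z' hz'
  obtain ⟨w, hw⟩ := exists_primitive (G := fun m => Fam (T.X m)) (δT T) (fT T)
    (fun m x => funext fun n => funext fun q => sq_m T m n q _)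
    (fun m x => by
      funext n q
      show (((T.d (m - 1) m).f n).f q).hom (sgn (m - 1) • ((((T.X (m - 1)).d (n - 1) n).f q).hom (x (n - 1) q) +
          (sgn n * sgn 0) • (((T.X (m - 1)).X n).d (q - 1) q).hom (x n (q - 1)))) +
        sgn m • ((((T.X m).d (n - 1) n).f q).hom ((((T.d (m - 1) m).f (n - 1)).f q).hom (x (n - 1) q)) +
          (sgn n * sgn 0) • (((T.X m).X n).d (q - 1) q).hom ((((T.d (m - 1) m).f n).f (q - 1)).hom (x n (q - 1)))) = 0
      rw [map_zsmul, map_add, map_zsmul, comm_mn, comm_mq, sgn_pred]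
      simp only [smul_add, smul_smul, neg_smul]
      module)
    (fun m hm' x => funext fun n => funext fun q => hm m n q hm' _)
    (fun m x hx => by
      have h0 : dTw (T.X m) 0 x = 0 := by
        have := congrArg (sgn m • ·) hx
        simp only [δT, AddMonoidHom.smul_apply, smul_smul, sgn_mul_self, one_smul, smul_zero] at this
        exact this
      obtain ⟨y, hy⟩ := hT m x h0
      exact ⟨sgn m • y, by
        simp only [δT, AddMonoidHom.smul_apply, map_zsmul, hy, smul_smul, sgn_mul_self, one_smul]⟩)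
    (fun m n q => Z n m q)
    (fun m => funext fun n => funext fun q => by
      have h := congrFun (congrFun (hZ n) m) q
      change sgn m • (((T.X m).d (n - 1) n).f q).hom (Z (n - 1) m q) +
        ((((T.d (m - 1) m).f n).f q).hom (Z n (m - 1) q) +
          (sgn m * sgn n) • (((T.X m).X n).d (q - 1) q).hom (Z n m (q - 1))) = 0 at h
      refine Eq.trans ?_ h
      show (((T.d (m - 1) m).f n).f q).hom (Z n (m - 1) q) +
        sgn m • ((((T.X m).d (n - 1) n).f q).hom (Z (n - 1) m q) +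
          (sgn n * sgn 0) • (((T.X m).X n).d (q - 1) q).hom (Z n m (q - 1))) = _
      rw [sgn_zero, mul_one, smul_add, smul_smul]
      module)
  refine ⟨fun m q => sgn (-1 * q) • w m (-1) q, funext fun m => funext fun q => ?_⟩
  refine (dTw_twist (U T (-1)) (-1) (fun m q => w m (-1) q) m q).trans ?_
  have h := congrFun (congrFun (hw m) (-1)) q
  change (((T.d (m - 1) m).f (-1)).f q).hom (w (m - 1) (-1) q) +
    sgn m • ((((T.X m).d (-1 - 1) (-1)).f q).hom (w m (-1 - 1) q) +
      (sgn (-1) * sgn 0) • (((T.X m).X (-1)).d (q - 1) q).hom (w m (-1) (q - 1))) = Z (-1) m q at h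
  rw [hn m (-1 - 1) q (by omega) (w m (-1 - 1) q), map_zero, zero_add, hZ₀, sgn_zero, mul_one, smul_smul] at h
  refine (congrArg (sgn (-1 * q) • ·) h).trans ?_
  show sgn (-1 * q) • sgn (-1 * q) • z m q = z m q
  rw [smul_smul, sgn_mul_self, one_smul]

end Tri

end Groth.Agent.H15Site.DescTri
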