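import Groth.Agent.H15Site.DescTri.Sys
import Groth.Agent.H15Site.DescSimp.DescSS

/-!
# Sheaves on total sites from compatible systems
-/

set_option autoImplicit false
set_option linter.style.haveILetI false
set_option linter.unusedSectionVars false
set_option backward.isDefEq.respectTransparency false
set_option backward.isDefEq.respectTransparency.types false

universe u

open CategoryTheory CategoryTheory.Limits Opposite Pseudofunctor Pseudofunctor.CoGrothendieck
open TopologicalSpace Groth.Agent.H15Site.OpensFib Groth.Agent.H15Site.DescSimp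

noncomputable section

namespace Groth.Agent.H15Site.DescTri

attribute [local instance 10000] SiteInst.hasSheafifySite SiteInst.hasWeakSheafifySite
  SiteInst.hasExtSite SiteInst.enoughInjSite

variable (Y : K Δ ⥤ TopCat.{u}) {S : TopCat.{u}} (b : base Y ⟶ S) (M : Sys S)

/-- The structure map of a level. -/
abbrev pk (k : K Δ) : Y.obj k ⟶ S := tB Y k ≫ b

lemma map_pk {k l : K Δ} (β : k ⟶ l) : Y.map β ≫ pk Y b l = pk Y b k := by
  ext y
  exact congrArg b (tB_apply Y β y)

/-- Restriction of sections of a system. -/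
abbrev rs {k l : K Δ} (β : k ⟶ l) (U : Opens (Y.obj l)) :
    (M.obj (pk Y b l)).obj.obj (op U) ⟶ (M.obj (pk Y b k)).obj.obj (op ((Opens.map (Y.map β)).obj U)) :=
  (M.res (Y.map β) (pk Y b l) (pk Y b k) (map_pk Y b β)).hom.app (op U)

lemma rs_id {k : K Δ} (U : Opens (Y.obj k)) (x : (M.obj (pk Y b k)).obj.obj (op U))
    (hU : U ≤ (Opens.map (Y.map (𝟙 k))).obj U) :
    (M.obj (pk Y b k)).obj.map (homOfLE hU).op ((rs Y b M (𝟙 k) U).hom x) = x := by
  have gen : ∀ (h : Y.obj k ⟶ Y.obj k) (e : h = 𝟙 _) (hh : h ≫ pk Y b k = pk Y b k)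
      (hU : U ≤ (Opens.map h).obj U),
      (M.obj (pk Y b k)).obj.map (homOfLE hU).op ((M.res h (pk Y b k) (pk Y b k) hh).hom.app (op U) x) = x := by
    rintro h rfl hh hU
    rw [M.res_id]
    exact ConcreteCategory.congr_hom ((M.obj (pk Y b k)).obj.map_id _) x
  exact gen _ (Y.map_id k) _ hU

/-- The total presheaf. -/
def totPre : (∫ᶜ (F Y))ᵒᵖ ⥤ AddCommGrpCat.{u} where
  obj X := (M.obj (pk Y b X.unop.base)).obj.obj (op (OpensFib.fib X.unop))
  map {X Z} f := rs Y b M f.unop.base (OpensFib.fib X.unop) ≫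
    (M.obj (pk Y b Z.unop.base)).obj.map (homOfLE (le_of_hom f.unop)).op
  map_id X := by
    ext x
    exact rs_id Y b M _ x _
  map_comp {X Z W} f g := by
    ext x
    have e : M.res (Y.map (g.unop.base ≫ f.unop.base)) (pk Y b X.unop.base) (pk Y b W.unop.base)
        (map_pk Y b (g.unop.base ≫ f.unop.base)) =
      M.res (Y.map f.unop.base) _ _ (map_pk Y b f.unop.base) ≫
        (CohTop.push (Y.map f.unop.base)).map (M.res (Y.map g.unop.base) (pk Y b Z.unop.base) _
          (map_pk Y b g.unop.base)) ≫
        eqToHom (show (CohTop.push (Y.map f.unop.base)).obj ((CohTop.push (Y.map g.unop.base)).obj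
            (M.obj (pk Y b W.unop.base))) =
          (CohTop.push (Y.map (g.unop.base ≫ f.unop.base))).obj (M.obj (pk Y b W.unop.base)) by
          rw [Y.map_comp]; rfl) := by
      have gen : ∀ (h : Y.obj W.unop.base ⟶ Y.obj X.unop.base)
          (e : h = Y.map g.unop.base ≫ Y.map f.unop.base) (hh : h ≫ pk Y b X.unop.base = pk Y b W.unop.base)
          (e' : (CohTop.push (Y.map f.unop.base)).obj ((CohTop.push (Y.map g.unop.base)).obj
              (M.obj (pk Y b W.unop.base))) = (CohTop.push h).obj (M.obj (pk Y b W.unop.base))),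
          M.res h (pk Y b X.unop.base) (pk Y b W.unop.base) hh =
            M.res (Y.map f.unop.base) _ _ (map_pk Y b f.unop.base) ≫
              (CohTop.push (Y.map f.unop.base)).map (M.res (Y.map g.unop.base) (pk Y b Z.unop.base) _
                (map_pk Y b g.unop.base)) ≫ eqToHom e' := by
        rintro h rfl hh e'
        rw [eqToHom_refl, Category.comp_id]
        exact M.res_comp _ _ _ _ _ _ _ hh
      exact gen _ (Y.map_comp _ _) _ _
    show ((M.obj (pk Y b W.unop.base)).obj.map (homOfLE (le_of_hom (g.unop ≫ f.unop))).op)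
        ((M.res (Y.map (g.unop.base ≫ f.unop.base)) (pk Y b X.unop.base) (pk Y b W.unop.base)
          (map_pk Y b (g.unop.base ≫ f.unop.base))).hom.app (op (OpensFib.fib X.unop)) x) = _
    rw [e]
    have key : ∀ {h h' : Y.obj W.unop.base ⟶ Y.obj X.unop.base} (e : h = h')
        (e' : (CohTop.push h).obj (M.obj (pk Y b W.unop.base)) = (CohTop.push h').obj (M.obj (pk Y b W.unop.base)))
        (hle : OpensFib.fib W.unop ≤ (Opens.map h').obj (OpensFib.fib X.unop))
        (hle' : OpensFib.fib W.unop ≤ (Opens.map h).obj (OpensFib.fib X.unop))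
        (v : ((CohTop.push h).obj (M.obj (pk Y b W.unop.base))).obj.obj (op (OpensFib.fib X.unop))),
        (M.obj (pk Y b W.unop.base)).obj.map (homOfLE hle).op ((eqToHom e').hom.app _ v) =
          (M.obj (pk Y b W.unop.base)).obj.map (homOfLE hle').op v := by
      rintro h h' rfl e' hle hle' v
      rfl
    have hle₂ : OpensFib.fib W.unop ≤
        (Opens.map (Y.map g.unop.base ≫ Y.map f.unop.base)).obj (OpensFib.fib X.unop) := fun w hw => by
      have h1 := le_of_hom f.unop (le_of_hom g.unop hw)
      exact h1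
    refine (key (Y.map_comp g.unop.base f.unop.base).symm _ _ hle₂ _).trans ?_
    refine Eq.trans ?_ (congrArg ((M.obj (pk Y b W.unop.base)).obj.map (homOfLE (le_of_hom g.unop)).op)
      (ConcreteCategory.congr_hom ((M.res (Y.map g.unop.base) (pk Y b Z.unop.base) (pk Y b W.unop.base)
        (map_pk Y b g.unop.base)).hom.naturality (homOfLE (le_of_hom f.unop)).op) _).symm)
    exact ConcreteCategory.congr_hom ((M.obj (pk Y b W.unop.base)).obj.map_comp _ _) _

/-- The level comparison. -/
def restrTot (k : K Δ) : (ι (F Y) k).op ⋙ totPre Y b M ≅ (M.obj (pk Y b k)).obj :=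
  NatIso.ofComponents (fun U => Iso.refl _) (fun {U V} r => by
    refine (Category.comp_id _).trans (Eq.trans ?_ (Category.id_comp _).symm)
    ext x
    show (M.obj (pk Y b k)).obj.map _ ((rs Y b M ((ι (F Y) k).map r.unop).base U.unop).hom x) = _
    have hU : (show Opens (Y.obj k) from U.unop) ≤ (Opens.map (Y.map ((ι (F Y) k).map r.unop).base)).obj U.unop := fun y hy => by
      show Y.map (𝟙 k) y ∈ (show Opens (Y.obj k) from U.unop)
      rwa [Y.map_id]
    refine Eq.trans ?_ (congrArg ((M.obj (pk Y b k)).obj.map r) (rs_id Y b M U.unop x hU))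
    exact ConcreteCategory.congr_hom ((M.obj (pk Y b k)).obj.map_comp (homOfLE hU).op r) _)

theorem isSheaf_totPre : Presheaf.IsSheaf (FibDesc.totAug (F Y) (J Y)) (totPre Y b M) :=
  (Groth.Agent.H14FibSite.isSheaf_total_iff (isPreFibSite Y) _).2 fun k =>
    (Presheaf.isSheaf_of_iso_iff (restrTot Y b M k)).2 (M.obj (pk Y b k)).property

/-- The total sheaf of a system. -/
def tot : TA Y := ⟨totPre Y b M, isSheaf_totPre Y b M⟩

/-- The levels of a total sheaf. -/
def restrTotIso (k : K Δ) : (restrA Y k).obj (tot Y b M) ≅ M.obj (pk Y b k) :=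
  (fullyFaithfulSheafToPresheaf _ _).preimageIso (restrTot Y b M k)

lemma str_tot {k l : K Δ} (β : k ⟶ l) :
    (str β).app (tot Y b M) ≫ (CohTop.push (Y.map β)).map (restrTotIso Y b M k).hom =
      (restrTotIso Y b M l).hom ≫ M.res (Y.map β) (pk Y b l) (pk Y b k) (map_pk Y b β) := by
  refine ObjectProperty.hom_ext _ (NatTrans.ext (funext fun U => ?_))
  ext x
  exact ConcreteCategory.congr_hom ((M.obj (pk Y b k)).obj.map_id _) _

/-- Functoriality. -/
def totMap {M N : Sys S} (φ : SysHom M N) : tot Y b M ⟶ tot Y b N :=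
  ⟨{ app := fun X => (φ.app (pk Y b X.unop.base)).hom.app (op (OpensFib.fib X.unop))
     naturality := fun X Z f => by
      ext x
      refine (ConcreteCategory.congr_hom ((φ.app (pk Y b Z.unop.base)).hom.naturality
        (homOfLE (le_of_hom f.unop)).op) _).trans ?_
      exact congrArg ((N.obj (pk Y b Z.unop.base)).obj.map (homOfLE (le_of_hom f.unop)).op)
        (ConcreteCategory.congr_hom (congrArg (fun t => t.hom.app (op (OpensFib.fib X.unop)))
          (φ.naturality (Y.map f.unop.base) (pk Y b X.unop.base) (pk Y b Z.unop.base) (map_pk Y b f.unop.base))) x) }⟩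

lemma totMap_restr {M N : Sys S} (φ : SysHom M N) (k : K Δ) :
    (restrA Y k).map (totMap Y b φ) ≫ (restrTotIso Y b N k).hom = (restrTotIso Y b M k).hom ≫ φ.app (pk Y b k) := by
  refine ObjectProperty.hom_ext _ (NatTrans.ext (funext fun U => ?_))
  rfl

end Groth.Agent.H15Site.DescTri
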